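import Groth.Agent.Lib.Tame.Key.Chi
import Groth.Agent.Lib.Tame.LocLen
import Mathlib.RingTheory.Ideal.AssociatedPrime.Finiteness
import Mathlib.RingTheory.Spectrum.Prime.Basic
import Mathlib.RingTheory.FiniteLength
import Mathlib.RingTheory.Noetherian.Basic

/-!
# Multiplicities on one-dimensional modules over an algebra finite over a local ring
-/

set_option autoImplicit false

universe u

namespace Groth.Agent.Lib.Tame.Key.Mult

open Chi LocLen

variable {A B : Type u} [CommRing A] [IsLocalRing A] [IsNoetherianRing A] [CommRing B] [Algebra A B]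
  [Module.Finite A B]

/-- A non-maximal prime with only maximal primes above it. -/
def Curve (p : Ideal B) : Prop := ¬ p.IsMaximal ∧ ∀ p' : Ideal B, p'.IsPrime → p < p' → p'.IsMaximal

omit [IsLocalRing A] [IsNoetherianRing A] [Module.Finite A B] [Algebra A B] in
theorem Curve.eq_of_le {p p' : Ideal B} (hp : Curve p) [p'.IsPrime] (hle : p ≤ p') (hp' : ¬ p'.IsMaximal) :
    p = p' := by
  by_contra h
  exact hp' (hp.2 p' inferInstance (lt_of_le_of_ne hle h))

/-- `M` is supported on `S` and the maximal ideals. -/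
def Off (S : Finset (PrimeSpectrum B)) (M : Type u) [AddCommGroup M] [Module B M] : Prop :=
  ∀ Q : PrimeSpectrum B, ¬ Q.asIdeal.IsMaximal → Q ∉ S → ∀ m : M, ∃ s ∉ Q.asIdeal, s • m = 0

theorem length_lt_top_of_quotient_maximal (p : Ideal B) [p.IsMaximal] : Module.length A (B ⧸ p) < ⊤ := by
  have hp : p.comap (algebraMap A B) = IsLocalRing.maximalIdeal A :=
    IsLocalRing.eq_maximalIdeal (Ideal.isMaximal_comap_of_isIntegral_of_isMaximal p)
  let := Ideal.Quotient.field (IsLocalRing.maximalIdeal A)
  let : Algebra (A ⧸ IsLocalRing.maximalIdeal A) (B ⧸ p) := Ideal.Quotient.algebraQuotientOfLEComap hp.ge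
  have : IsScalarTower A (A ⧸ IsLocalRing.maximalIdeal A) (B ⧸ p) := IsScalarTower.of_algebraMap_eq fun _ => rfl
  have : Module.Finite A (B ⧸ p) := Module.Finite.of_surjective (Ideal.Quotient.mkₐ A p).toLinearMap
    Ideal.Quotient.mk_surjective
  have : Module.Finite (A ⧸ IsLocalRing.maximalIdeal A) (B ⧸ p) :=
    Module.Finite.of_restrictScalars_finite A _ _
  rw [Module.length_eq_of_surjective (R := A ⧸ IsLocalRing.maximalIdeal A) (S := A) Ideal.Quotient.mk_surjective,
    Module.length_eq_finrank]
  exact ENat.natCast_lt_top _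

/-- A module supported on maximal ideals has finite length over `A`. -/
theorem length_lt_top_of_off {M : Type u} [AddCommGroup M] [Module B M] [Module.Finite B M] (hM : Off (∅ : Finset (PrimeSpectrum B)) M) :
    ∀ [Module A M] [IsScalarTower A B M], Module.length A M < ⊤ := by
  have : IsNoetherianRing B := isNoetherian_of_tower A inferInstance
  revert hM
  induction ‹Module.Finite B M› using IsNoetherianRing.induction_on_isQuotientEquivQuotientPrime B with
  | subsingleton N =>
    intro _ _ _
    rw [Module.length_eq_zero_iff.2 ‹_›]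
    exact ENat.top_pos
  | quotient N p e =>
    intro hM _ _
    rw [(e.restrictScalars A).length_eq]
    have : p.asIdeal.IsMaximal := by
      by_contra hne
      obtain ⟨s, hs, hs0⟩ := hM p hne (Finset.notMem_empty _) (e.symm (Submodule.Quotient.mk 1))
      rw [← map_smul, e.symm.map_eq_zero_iff, ← Submodule.Quotient.mk_smul, Submodule.Quotient.mk_eq_zero,
        smul_eq_mul, mul_one] at hs0
      exact hs hs0
    exact length_lt_top_of_quotient_maximal p.asIdeal
  | exact N₁ N₂ N₃ f g hf hg he ih₁ ih₃ =>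
    intro hM _ _
    let : Module A N₁ := Module.compHom N₁ (algebraMap A B)
    have : IsScalarTower A B N₁ := IsScalarTower.of_algebraMap_smul fun _ _ => rfl
    let : Module A N₃ := Module.compHom N₃ (algebraMap A B)
    have : IsScalarTower A B N₃ := IsScalarTower.of_algebraMap_smul fun _ _ => rfl
    rw [Module.length_eq_add_of_exact (f.restrictScalars A) (g.restrictScalars A) hf hg he, ENat.add_lt_top]
    exact ⟨ih₁ (fun Q hQ h m => by
        obtain ⟨s, hs, h0⟩ := hM Q hQ h (f m)
        exact ⟨s, hs, hf (by rw [map_smul, h0, map_zero])⟩),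
      ih₃ (fun Q hQ h m => by
        obtain ⟨m, rfl⟩ := hg m
        obtain ⟨s, hs, h0⟩ := hM Q hQ h m
        exact ⟨s, hs, by rw [← map_smul, h0, map_zero]⟩)⟩

/-- Multiplication by `x` as an `A`-linear map. -/
noncomputable def mulMap (A : Type u) [CommRing A] [Algebra A B] (M : Type u) [AddCommGroup M] [Module B M]
    [Module A M] [IsScalarTower A B M] (x : B) : M →ₗ[A] M :=
  (LinearMap.lsmul B M x).restrictScalars A

/-- The order of `x` on the curve `p`. -/
noncomputable def ordA (A : Type u) [CommRing A] [Algebra A B] (p : Ideal B) (x : B) : ℕ :=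
  (Module.length A (B ⧸ (p ⊔ Ideal.span {x}))).toNat

theorem mulMap_quotient (p : Ideal B) [p.IsPrime] (hp : Curve p) {x : B} (hx : x ∉ p) :
    Fin2 (mulMap A (B ⧸ p) x) ∧ chi (mulMap A (B ⧸ p) x) = (ordA A p x : ℤ) := by
  have hk : LinearMap.ker (mulMap A (B ⧸ p) x) = ⊥ := by
    rw [eq_bot_iff]
    intro z hz
    obtain ⟨b, rfl⟩ := Ideal.Quotient.mk_surjective z
    have hxb : Ideal.Quotient.mk p (x * b) = 0 := hz
    exact (Submodule.mem_bot A).2 (Ideal.Quotient.eq_zero_iff_mem.2
      (((‹p.IsPrime›).mem_or_mem (Ideal.Quotient.eq_zero_iff_mem.1 hxb)).resolve_left hx))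
  let π : (B ⧸ p) →ₗ[A] B ⧸ (p ⊔ Ideal.span {x}) :=
    (Submodule.factor (le_sup_left (a := p) (b := Ideal.span {x}))).restrictScalars A
  have hr : LinearMap.ker π = LinearMap.range (mulMap A (B ⧸ p) x) := by
    ext z
    obtain ⟨b, rfl⟩ := Ideal.Quotient.mk_surjective z
    change Ideal.Quotient.mk _ b = 0 ↔ _
    rw [Ideal.Quotient.eq_zero_iff_mem]
    constructor
    · intro hb
      obtain ⟨u, hu, v, hv, rfl⟩ := Submodule.mem_sup.1 hb
      obtain ⟨w, rfl⟩ := Ideal.mem_span_singleton'.1 hv
      refine ⟨Ideal.Quotient.mk p w, ?_⟩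
      change Ideal.Quotient.mk p (x * w) = Ideal.Quotient.mk p (u + w * x)
      rw [map_add, Ideal.Quotient.eq_zero_iff_mem.2 hu, zero_add, mul_comm]
    · rintro ⟨w, hw⟩
      obtain ⟨w, rfl⟩ := Ideal.Quotient.mk_surjective w
      have hw' : Ideal.Quotient.mk p (x * w) = Ideal.Quotient.mk p b := hw
      rw [Ideal.Quotient.eq] at hw'
      have h1 : x * w ∈ p ⊔ Ideal.span {x} :=
        Ideal.mem_sup_right (Ideal.mul_mem_right w _ (Ideal.mem_span_singleton_self x))
      have h2 : x * w - b ∈ p ⊔ Ideal.span {x} := Ideal.mem_sup_left hw'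
      have := sub_mem h1 h2
      rwa [sub_sub_cancel] at this
  have hπs : Function.Surjective π := fun z => by
    obtain ⟨b, rfl⟩ := Ideal.Quotient.mk_surjective z
    exact ⟨Ideal.Quotient.mk p b, rfl⟩
  have hl : Module.length A ((B ⧸ p) ⧸ LinearMap.range (mulMap A (B ⧸ p) x)) =
      Module.length A (B ⧸ (p ⊔ Ideal.span {x})) :=
    ((Submodule.quotEquivOfEq _ _ hr.symm).trans
      (π.quotKerEquivOfSurjective hπs)).length_eq
  have hfin : Module.length A (B ⧸ (p ⊔ Ideal.span {x})) < ⊤ := by
    refine length_lt_top_of_off (B := B) (fun Q hQ _ z => ?_)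
    have : ¬ (p ⊔ Ideal.span {x}) ≤ Q.asIdeal := fun hle => hx (by
      rw [hp.eq_of_le (le_sup_left.trans hle) hQ]
      exact hle (Ideal.mem_sup_right (Ideal.mem_span_singleton_self x)))
    obtain ⟨s, hs, hsQ⟩ := SetLike.not_le_iff_exists.1 this
    refine ⟨s, hsQ, ?_⟩
    obtain ⟨b, rfl⟩ := Ideal.Quotient.mk_surjective z
    exact Ideal.Quotient.eq_zero_iff_mem.2 (Ideal.mul_mem_right b _ hs)
  have hk0 : Module.length A (LinearMap.ker (mulMap A (B ⧸ p) x)) = 0 := by
    rw [hk, Module.length_eq_zero_iff]; infer_instance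
  refine ⟨⟨hl ▸ hfin, by rw [hk0]; exact ENat.top_pos⟩, ?_⟩
  rw [chi, hk0, hl, ordA]
  simp

/-- The multiplicity formula. -/
theorem chi_mulMap [DecidableEq (PrimeSpectrum B)] (S : Finset (PrimeSpectrum B)) (hS : ∀ Q ∈ S, Curve Q.asIdeal)
    {x : B} (hx : ∀ Q ∈ S, x ∉ Q.asIdeal) {M : Type u} [AddCommGroup M] [Module B M] [Module.Finite B M]
    (hM : Off S M) : ∀ [Module A M] [IsScalarTower A B M],
    (∀ Q ∈ S, locLen Q.asIdeal M ≠ ⊤) ∧ Fin2 (mulMap A M x) ∧
      chi (mulMap A M x) = ∑ Q ∈ S, ((locLen Q.asIdeal M).toNat : ℤ) * (ordA A Q.asIdeal x : ℤ) := by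
  have : IsNoetherianRing B := isNoetherian_of_tower A inferInstance
  revert hM
  induction ‹Module.Finite B M› using IsNoetherianRing.induction_on_isQuotientEquivQuotientPrime B with
  | subsingleton N =>
    intro _ _ _
    have h0 : Module.length A N < ⊤ := by rw [Module.length_eq_zero_iff.2 ‹_›]; exact ENat.top_pos
    refine ⟨fun Q _ => by rw [locLen_subsingleton]; exact ENat.zero_ne_top, fin2_of_finite _ h0 h0, ?_⟩
    rw [chi_of_finite _ h0 h0]
    simp [locLen_subsingleton]
  | quotient N p e =>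
    intro hM _ _
    have heq := chi_congr (e.restrictScalars A) (e.restrictScalars A) (mulMap A N x) (mulMap A (B ⧸ p.asIdeal) x)
      fun z => (map_smul e x z).symm
    have hloc : ∀ Q ∈ S, locLen Q.asIdeal N = if Q = p then locLen p.asIdeal (B ⧸ p.asIdeal) else 0 := by
      intro Q hQ
      rw [locLen_congr Q.asIdeal e]
      split_ifs with h
      · subst h; rfl
      · obtain ⟨s, hs, hsQ⟩ : ∃ s ∈ p.asIdeal, s ∉ Q.asIdeal := by
          by_contra hne
          push Not at hne
          by_cases hpm : p.asIdeal.IsMaximal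
          · exact (hS Q hQ).1 (hpm.eq_of_le Q.2.ne_top hne ▸ hpm)
          · obtain ⟨s, hs, h0⟩ : ∃ s ∉ p.asIdeal, s • (Submodule.Quotient.mk 1 : B ⧸ p.asIdeal) = 0 := by
              by_contra hno
              push Not at hno
              have hpS : p ∈ S := by
                by_contra hpS
                obtain ⟨s, hs, h0⟩ := hM p hpm hpS (e.symm (Submodule.Quotient.mk 1))
                rw [← map_smul, e.symm.map_eq_zero_iff] at h0
                exact hno s hs h0
              exact h (PrimeSpectrum.ext ((hS p hpS).eq_of_le hne (hS Q hQ).1).symm)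
            rw [← Submodule.Quotient.mk_smul, Submodule.Quotient.mk_eq_zero, smul_eq_mul, mul_one] at h0
            exact hs h0
        refine locLen_eq_zero_of_smul _ hsQ fun z => ?_
        obtain ⟨b, rfl⟩ := Ideal.Quotient.mk_surjective z
        exact Ideal.Quotient.eq_zero_iff_mem.2 (Ideal.mul_mem_right b _ hs)
    by_cases hpm : p.asIdeal.IsMaximal
    · have hlt : Module.length A (B ⧸ p.asIdeal) < ⊤ := length_lt_top_of_quotient_maximal p.asIdeal
      have h0 : ∀ Q ∈ S, locLen Q.asIdeal N = 0 := fun Q hQ => by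
        rw [hloc Q hQ, if_neg fun h : Q = p => (hS Q hQ).1 (h ▸ hpm)]
      refine ⟨fun Q hQ => by rw [h0 Q hQ]; exact ENat.zero_ne_top, heq.1.2 (fin2_of_finite _ hlt hlt), ?_⟩
      rw [heq.2, chi_of_finite _ hlt hlt, sub_self]
      exact (Finset.sum_eq_zero fun Q hQ => by rw [h0 Q hQ]; simp).symm
    · have hpS : p ∈ S := by
        by_contra hpS
        obtain ⟨s, hs, h0⟩ := hM p hpm hpS (e.symm (Submodule.Quotient.mk 1))
        rw [← map_smul, e.symm.map_eq_zero_iff, ← Submodule.Quotient.mk_smul, Submodule.Quotient.mk_eq_zero,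
          smul_eq_mul, mul_one] at h0
        exact hs h0
      have hself : locLen p.asIdeal (B ⧸ p.asIdeal) = 1 := by
        let f : (B ⧸ p.asIdeal) →ₗ[B] p.asIdeal.ResidueField :=
          (Algebra.linearMap (B ⧸ p.asIdeal) p.asIdeal.ResidueField).restrictScalars B
        have hb : Function.Injective f := p.asIdeal.injective_algebraMap_quotient_residueField
        have : IsLocalizedModule p.asIdeal.primeCompl f := by
          refine ⟨fun s => ?_, fun y => ?_, fun {y z} h => ⟨1, by rw [hb h]⟩⟩
          · have hne : algebraMap B p.asIdeal.ResidueField s ≠ 0 := by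
              rw [Ne, Ideal.algebraMap_residueField_eq_zero]
              exact s.2
            rw [Module.End.isUnit_iff]
            refine ⟨fun y z h => ?_, fun y => ⟨(algebraMap B p.asIdeal.ResidueField s)⁻¹ * y, ?_⟩⟩
            · simp only [Module.algebraMap_end_apply, Algebra.smul_def] at h
              exact mul_left_cancel₀ hne h
            · simp only [Module.algebraMap_end_apply, Algebra.smul_def]
              rw [← mul_assoc, mul_inv_cancel₀ hne, one_mul]
          · obtain ⟨y, rfl⟩ := IsLocalRing.residue_surjective (R := Localization.AtPrime p.asIdeal) y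
            obtain ⟨b, s, rfl⟩ := IsLocalization.exists_mk'_eq p.asIdeal.primeCompl y
            refine ⟨⟨Ideal.Quotient.mk _ b, s⟩, ?_⟩
            change (s : B) • IsLocalRing.residue _ _ = IsLocalRing.residue _ (algebraMap B (Localization.AtPrime p.asIdeal) b)
            rw [Algebra.smul_def, ← IsLocalization.mk'_spec (Localization.AtPrime p.asIdeal) b s, map_mul, mul_comm]
            rfl
        rw [locLen_eq_of_isLocalizedModule p.asIdeal f,
          Module.length_eq_of_surjective (R := p.asIdeal.ResidueField) (S := Localization.AtPrime p.asIdeal)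
            IsLocalRing.residue_surjective,
          Module.length_eq_finrank, Module.finrank_self, Nat.cast_one]
      obtain ⟨hf, hc⟩ := mulMap_quotient p.asIdeal (hS p hpS) (A := A) (hx p hpS)
      refine ⟨fun Q hQ => by rw [hloc Q hQ]; split_ifs <;> simp [hself], heq.1.2 hf, ?_⟩
      rw [heq.2, hc, Finset.sum_eq_single p (fun Q hQ h => by rw [hloc Q hQ, if_neg h]; simp)
        (fun h => absurd hpS h), hloc p hpS, if_pos rfl, hself]
      simp
  | exact N₁ N₂ N₃ f g hf hg he ih₁ ih₃ =>
    intro hM _ _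
    let : Module A N₁ := Module.compHom N₁ (algebraMap A B)
    have : IsScalarTower A B N₁ := IsScalarTower.of_algebraMap_smul fun _ _ => rfl
    let : Module A N₃ := Module.compHom N₃ (algebraMap A B)
    have : IsScalarTower A B N₃ := IsScalarTower.of_algebraMap_smul fun _ _ => rfl
    obtain ⟨a₁, b₁, c₁⟩ := ih₁ (fun Q hQ h m => by
        obtain ⟨s, hs, h0⟩ := hM Q hQ h (f m)
        exact ⟨s, hs, hf (by rw [map_smul, h0, map_zero])⟩)
    obtain ⟨a₃, b₃, c₃⟩ := ih₃ (fun Q hQ h m => by
        obtain ⟨m, rfl⟩ := hg m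
        obtain ⟨s, hs, h0⟩ := hM Q hQ h m
        exact ⟨s, hs, by rw [← map_smul, h0, map_zero]⟩)
    obtain ⟨b₂, c₂⟩ := chi_ses (mulMap A N₁ x) (mulMap A N₂ x) (mulMap A N₃ x)
      (i := f.restrictScalars A) (p := g.restrictScalars A) (j := f.restrictScalars A) (q := g.restrictScalars A)
      hf hf hg hg he he (fun z => (map_smul f x z).symm) (fun z => (map_smul g x z).symm) b₁ b₃
    refine ⟨fun Q hQ => ?_, b₂, ?_⟩
    · rw [locLen_add Q.asIdeal hf hg he]
      exact WithTop.add_ne_top.2 ⟨a₁ Q hQ, a₃ Q hQ⟩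
    · rw [c₂, c₁, c₃, ← Finset.sum_add_distrib]
      refine Finset.sum_congr rfl fun Q hQ => ?_
      rw [locLen_add Q.asIdeal hf hg he, ENat.toNat_add (a₁ Q hQ) (a₃ Q hQ)]
      push_cast
      ring

end Groth.Agent.Lib.Tame.Key.Mult
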