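import Groth.Agent.Lib.CycAlg.Per
import Mathlib.RingTheory.Length
import Mathlib.LinearAlgebra.Isomorphisms

/-!
# Euler characteristic of a linear map with finite-length kernel and cokernel
-/

set_option autoImplicit false

universe u

open LinearMap

namespace Groth.Agent.Lib.Tame.Key.Chi

open Groth.Agent.Lib.CycAlg.Per

variable {A : Type u} [CommRing A] {M N P : Type u} [AddCommGroup M] [Module A M] [AddCommGroup N] [Module A N]
  [AddCommGroup P] [Module A P]

/-- Kernel and cokernel have finite length. -/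
def Fin2 (f : M →ₗ[A] N) : Prop :=
  Module.length A (N ⧸ range f) < ⊤ ∧ Module.length A (ker f) < ⊤

/-- Length of the cokernel minus length of the kernel. -/
noncomputable def chi (f : M →ₗ[A] N) : ℤ :=
  ((Module.length A (N ⧸ range f)).toNat : ℤ) - ((Module.length A (ker f)).toNat : ℤ)

theorem length_perH_zero_right (f : M →ₗ[A] N) :
    Module.length A (CycAlg.perH f (0 : N →ₗ[A] M)) = Module.length A (ker f) := by
  refine (Submodule.quotEquivOfEqBot _ ?_).length_eq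
  rw [eq_bot_iff]
  rintro z ⟨y, hy⟩
  exact (Submodule.mem_bot A).2 (Subtype.ext hy.symm)

theorem length_perH_zero_left (f : M →ₗ[A] N) :
    Module.length A (CycAlg.perH (0 : N →ₗ[A] M) f) = Module.length A (N ⧸ range f) := by
  refine (Submodule.Quotient.equiv _ _
    ((LinearEquiv.ofEq _ _ LinearMap.ker_zero).trans Submodule.topEquiv) ?_).length_eq
  ext w
  rw [Submodule.mem_map]
  exact ⟨fun ⟨z, hz, h⟩ => h ▸ hz, fun h => ⟨⟨w, rfl⟩, h, rfl⟩⟩

theorem fin2_iff (f : M →ₗ[A] N) : Fin2 f ↔ CycAlg.FinCoh A (0 : N →ₗ[A] M) f := by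
  rw [Fin2, CycAlg.FinCoh, length_perH_zero_left, length_perH_zero_right]

theorem chi_eq_herbrand (f : M →ₗ[A] N) : chi f = CycAlg.herbrand A (0 : N →ₗ[A] M) f := by
  rw [chi, CycAlg.herbrand, length_perH_zero_left, length_perH_zero_right]

theorem fin2_of_finite (f : M →ₗ[A] N) (hM : Module.length A M < ⊤) (hN : Module.length A N < ⊤) : Fin2 f :=
  ⟨(Module.length_le_of_surjective _ (Submodule.mkQ_surjective _)).trans_lt hN,
    (Module.length_le_of_injective (ker f).subtype Subtype.val_injective).trans_lt hM⟩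

theorem chi_of_finite (f : M →ₗ[A] N) (hM : Module.length A M < ⊤) (hN : Module.length A N < ⊤) :
    chi f = ((Module.length A N).toNat : ℤ) - (Module.length A M).toNat := by
  rw [chi_eq_herbrand, (herbrand_of_finite (0 : N →ₗ[A] M) f (fun _ => rfl) (fun y => map_zero f) hN hM).2]

/-- Additivity in short exact sequences. -/
theorem chi_ses {M₁ N₁ M₂ N₂ M₃ N₃ : Type u} [AddCommGroup M₁] [Module A M₁] [AddCommGroup N₁] [Module A N₁]
    [AddCommGroup M₂] [Module A M₂] [AddCommGroup N₂] [Module A N₂] [AddCommGroup M₃] [Module A M₃]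
    [AddCommGroup N₃] [Module A N₃] (f₁ : M₁ →ₗ[A] N₁) (f₂ : M₂ →ₗ[A] N₂) (f₃ : M₃ →ₗ[A] N₃)
    {i : M₁ →ₗ[A] M₂} {p : M₂ →ₗ[A] M₃} {j : N₁ →ₗ[A] N₂} {q : N₂ →ₗ[A] N₃}
    (hi : Function.Injective i) (hj : Function.Injective j) (hp : Function.Surjective p)
    (hq : Function.Surjective q) (hip : Function.Exact i p) (hjq : Function.Exact j q)
    (c₁ : ∀ x, f₂ (i x) = j (f₁ x)) (c₂ : ∀ x, f₃ (p x) = q (f₂ x)) (h₁ : Fin2 f₁) (h₃ : Fin2 f₃) :
    Fin2 f₂ ∧ chi f₂ = chi f₁ + chi f₃ := by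
  have S : SES (0 : N₁ →ₗ[A] M₁) f₁ (0 : N₂ →ₗ[A] M₂) f₂ (0 : N₃ →ₗ[A] M₃) f₃ j i q p :=
    ⟨fun _ => rfl, fun y => map_zero _, fun _ => rfl, fun y => map_zero _,
      fun _ => (map_zero i).symm, c₁, fun _ => (map_zero p).symm, c₂, hj, hi, hq, hp, hjq, hip⟩
  obtain ⟨-, h, -, e⟩ := S.herbrand_eq (Or.inr (Or.inl ⟨(fin2_iff _).1 h₁, (fin2_iff _).1 h₃⟩))
  exact ⟨(fin2_iff _).2 h, by rw [chi_eq_herbrand, chi_eq_herbrand, chi_eq_herbrand, e]⟩

/-- Additivity in compositions. -/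
theorem chi_comp {f : M →ₗ[A] N} {g : N →ₗ[A] P} (hf : Fin2 f) (hg : Fin2 g) :
    Fin2 (g ∘ₗ f) ∧ chi (g ∘ₗ f) = chi f + chi g := by
  have aux : range f ≤ (range (g ∘ₗ f)).comap g := by rw [← Submodule.map_le_iff_le_comap, range_comp]
  let X : Hexagon (R := A) (ker f) (ker (g ∘ₗ f)) (ker g) (N ⧸ range f) (P ⧸ range (g ∘ₗ f)) (P ⧸ range g) :=
    { f₁ := Submodule.inclusion (ker_le_ker_comp f g)
      f₂ := f.restrict (p := ker (g ∘ₗ f)) (q := ker g) fun x hx => hx
      f₃ := (range f).mkQ ∘ₗ (ker g).subtype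
      f₄ := (range f).mapQ (range (g ∘ₗ f)) g aux
      f₅ := Submodule.factor (range_comp_le_range f g)
      f₆ := 0
      ex₁ := fun x => ⟨fun h => ⟨0, by
        rw [LinearMap.zero_apply, eq_comm]; exact Submodule.inclusion_injective _ (h.trans (map_zero _).symm)⟩,
        by rintro ⟨y, rfl⟩; exact map_zero _⟩
      ex₂ := fun x => ⟨fun h => ⟨⟨x.1, congrArg Subtype.val h⟩, rfl⟩,
        by rintro ⟨y, rfl⟩; exact Subtype.ext y.2⟩
      ex₃ := fun x => ⟨fun h => by
          obtain ⟨y, hy⟩ := (Submodule.Quotient.mk_eq_zero _).1 h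
          exact ⟨⟨y, show g (f y) = 0 by rw [hy]; exact x.2⟩, Subtype.ext hy⟩,
        by rintro ⟨y, rfl⟩; exact (Submodule.Quotient.mk_eq_zero _).2 ⟨y.1, rfl⟩⟩
      ex₄ := exact_iff.2 (by simp [range_comp, Submodule.ker_mapQ, Submodule.comap_map_eq])
      ex₅ := exact_iff.2 (by simp [Submodule.factor, Submodule.ker_mapQ, Submodule.range_mapQ])
      ex₆ := fun x => ⟨fun _ => Submodule.factor_surjective _ x, fun _ => rfl⟩ }
  have h2 : Module.length A (ker (g ∘ₗ f)) < ⊤ := X.lt_top hf.2 hg.2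
  have h5 : Module.length A (P ⧸ range (g ∘ₗ f)) < ⊤ := X.rotate.rotate.rotate.lt_top hf.1 hg.1
  refine ⟨⟨h5, h2⟩, ?_⟩
  have := X.alternating hf.2 h2 hg.2 hf.1 h5 hg.1
  simp only [chi]
  omega

/-- Invariance under isomorphisms. -/
theorem chi_congr {M' N' : Type u} [AddCommGroup M'] [Module A M'] [AddCommGroup N'] [Module A N']
    (e : M ≃ₗ[A] M') (e' : N ≃ₗ[A] N') (f : M →ₗ[A] N) (f' : M' →ₗ[A] N') (h : ∀ x, f' (e x) = e' (f x)) :
    (Fin2 f ↔ Fin2 f') ∧ chi f = chi f' := by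
  have h1 : Module.length A (ker f) = Module.length A (ker f') :=
    (LinearEquiv.ofSubmodules e (ker f) (ker f') (by
      ext z
      rw [Submodule.mem_map_equiv, LinearMap.mem_ker, LinearMap.mem_ker,
        ← e'.map_eq_zero_iff, ← h, LinearEquiv.apply_symm_apply])).length_eq
  have h2 : Module.length A (N ⧸ range f) = Module.length A (N' ⧸ range f') :=
    (Submodule.Quotient.equiv _ _ e' (by
      ext z
      rw [Submodule.mem_map_equiv]
      constructor
      · rintro ⟨x, hx⟩; exact ⟨e x, by rw [h, hx, LinearEquiv.apply_symm_apply]⟩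
      · rintro ⟨x, rfl⟩
        exact ⟨e.symm x, e'.injective (by rw [← h, LinearEquiv.apply_symm_apply, LinearEquiv.apply_symm_apply])⟩)).length_eq
  refine ⟨?_, ?_⟩
  · rw [Fin2, Fin2, h1, h2]
  · rw [chi, chi, h1, h2]

theorem fin2_of_equiv (e : M ≃ₗ[A] N) : Fin2 e.toLinearMap ∧ chi e.toLinearMap = 0 := by
  have h1 : Module.length A (ker e.toLinearMap) = 0 := by
    rw [LinearEquiv.ker, Module.length_eq_zero_iff]; infer_instance
  have h2 : Module.length A (N ⧸ range e.toLinearMap) = 0 := by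
    rw [Module.length_eq_zero_iff, Submodule.Quotient.subsingleton_iff, LinearEquiv.range]
  refine ⟨⟨?_, ?_⟩, ?_⟩ <;> simp only [chi, h1, h2] <;> simp

end Groth.Agent.Lib.Tame.Key.Chi
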