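import Groth.Agent.Lib.Tame.Key.Ident
import Groth.Agent.Lib.Cyc.PP.DetOrd
import Mathlib.RingTheory.QuasiFinite.Basic
import Mathlib.RingTheory.Norm.Basic
import Mathlib.RingTheory.Algebraic.Integral

/-!
# The order function given by norms
-/

set_option autoImplicit false

universe u

open IsLocalRing

namespace Groth.Agent.Lib.Tame.Key.Norm

open Ident Mult Groth.Agent.Lib.Cyc.PP.DetOrd Groth.Agent.Lib.Cyc.Retr.Idx

attribute [local instance] Localization.AtPrime.algebraOfLiesOver

variable (A : Type u) {B : Type u} [CommRing A] [IsLocalRing A] [IsNoetherianRing A] [CommRing B] [Algebra A B]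
  [Module.Finite A B]

/-- The norm of a residue class to the residue field of the prime below. -/
noncomputable def omega (Q : PrimeSpectrum B) (x : ResidueField (Localization.AtPrime Q.asIdeal)) : ℤ :=
  CycAlg.ordFrac (A ⧸ Q.asIdeal.under A) (Q.asIdeal.under A).ResidueField
    (Algebra.norm (Q.asIdeal.under A).ResidueField (show Q.asIdeal.ResidueField from x))

omit [IsNoetherianRing A] [IsLocalRing A] in
theorem krullDimLE_under (Q : Ideal B) [Q.IsPrime] (hQ : Curve Q) : Ring.KrullDimLE 1 (A ⧸ Q.under A) := by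
  rw [Ring.krullDimLE_one_iff]
  intro P hP
  by_cases hb : P = ⊥
  · left
    subst hb
    exact ⟨⟨Ideal.bot_prime, le_rfl⟩, fun J _ _ => bot_le⟩
  · right
    have hle : Q.under A ≤ P.comap (Ideal.Quotient.mk (Q.under A)) := fun a ha => by
      rw [Ideal.mem_comap, Ideal.Quotient.eq_zero_iff_mem.2 ha]; exact zero_mem _
    obtain ⟨Q', hQle, hQ'p, hQ'⟩ := Ideal.exists_ideal_over_prime_of_isIntegral (S := B)
      (P.comap (Ideal.Quotient.mk (Q.under A))) Q hle
    have hne : Q ≠ Q' := fun h => hb (by
      rw [← Ideal.map_comap_of_surjective _ Ideal.Quotient.mk_surjective P, ← hQ', ← h]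
      exact Ideal.map_quotient_self _)
    have := hQ'p
    have := hQ.2 Q' hQ'p (lt_of_le_of_ne hQle hne)
    have hmax : (P.comap (Ideal.Quotient.mk (Q.under A))).IsMaximal :=
      hQ' ▸ Ideal.isMaximal_comap_of_isIntegral_of_isMaximal Q'
    rw [← Ideal.map_comap_of_surjective _ Ideal.Quotient.mk_surjective P]
    exact Ideal.IsMaximal.map_of_surjective_of_ker_le Ideal.Quotient.mk_surjective (by rwa [Ideal.mk_ker])

/-- The image of `B` in the residue field, as a module over the quotient downstairs. -/
theorem omega_algebraMap (Q : PrimeSpectrum B) (hQ : Curve Q.asIdeal) {s : B} (hs : s ∉ Q.asIdeal) :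
    omega A Q (residue _ (algebraMap B (Localization.AtPrime Q.asIdeal) s)) = (ordA A Q.asIdeal s : ℤ) := by
  set q := Q.asIdeal.under A
  let K := q.ResidueField
  let V := Q.asIdeal.ResidueField
  let R := A ⧸ q
  have := krullDimLE_under A Q.asIdeal hQ
  have : IsNoetherianRing B := isNoetherian_of_tower A inferInstance
  let : Algebra R V := ((algebraMap K V).comp (algebraMap R K)).toAlgebra
  have : IsScalarTower R K V := IsScalarTower.of_algebraMap_eq' rfl
  have : IsScalarTower A R V := IsScalarTower.of_algebraMap_eq fun a => by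
    change algebraMap A V a = algebraMap K V (algebraMap R K (algebraMap A R a))
    rw [← IsScalarTower.algebraMap_apply A R K, ← IsScalarTower.algebraMap_apply A K V]
  let ι : B →ₗ[A] V := (IsScalarTower.toAlgHom A B V).toLinearMap
  have hι : ∀ b, ι b = algebraMap B V b := fun _ => rfl
  let M : Submodule R V :=
    { carrier := Set.range ι
      add_mem' := by rintro _ _ ⟨x, rfl⟩ ⟨y, rfl⟩; exact ⟨x + y, map_add ι x y⟩
      zero_mem' := ⟨0, map_zero ι⟩
      smul_mem' := by
        rintro r _ ⟨x, rfl⟩
        obtain ⟨a, rfl⟩ := Ideal.Quotient.mk_surjective r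
        exact ⟨a • x, by rw [map_smul, ← Ideal.Quotient.algebraMap_eq, algebraMap_smul]⟩ }
  have hfg : M.FG := by
    have h : (M.restrictScalars A).FG := by
      have : M.restrictScalars A = LinearMap.range ι := rfl
      rw [this, LinearMap.range_eq_map]
      exact Module.Finite.fg_top.map ι
    exact Submodule.FG.of_restrictScalars A h
  have : Module.Finite K V := inferInstance
  have hlat : IsLattice K M := by
    refine ⟨hfg, eq_top_iff.2 fun v _ => ?_⟩
    have hspan : Submodule.span K (M : Set V) = Subalgebra.toSubmodule (Algebra.adjoin K (M : Set V)) := by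
      rw [Algebra.adjoin_eq_span]
      congr 1
      have hcl : (Submonoid.closure (M : Set V) : Submonoid V) = MonoidHom.mrange (algebraMap B V).toMonoidHom := by
        refine le_antisymm (Submonoid.closure_le.2 ?_) ?_
        · rintro _ ⟨x, rfl⟩; exact ⟨x, rfl⟩
        · rintro _ ⟨x, rfl⟩; exact Submonoid.subset_closure ⟨x, rfl⟩
      rw [hcl]; rfl
    rw [hspan, Subalgebra.mem_toSubmodule]
    obtain ⟨r, rfl⟩ := IsLocalRing.residue_surjective (R := Localization.AtPrime Q.asIdeal) v
    obtain ⟨b, t, rfl⟩ := IsLocalization.exists_mk'_eq Q.asIdeal.primeCompl r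
    have ht : algebraMap B V t ≠ 0 := by rw [Ne, Ideal.algebraMap_residueField_eq_zero]; exact t.2
    have he : residue (Localization.AtPrime Q.asIdeal) (IsLocalization.mk' _ b t) = algebraMap B V b * (algebraMap B V t)⁻¹ := by
      refine (eq_mul_inv_iff_mul_eq₀ ht).2 ?_
      change residue _ _ * residue _ (algebraMap B (Localization.AtPrime Q.asIdeal) t) = residue _ (algebraMap B _ b)
      rw [← map_mul, IsLocalization.mk'_spec]
    rw [he]
    refine Subalgebra.mul_mem _ (Algebra.subset_adjoin ⟨b, rfl⟩) ?_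
    let x : Algebra.adjoin K (M : Set V) := ⟨algebraMap B V t, Algebra.subset_adjoin ⟨(t : B), rfl⟩⟩
    exact Subalgebra.inv_mem_of_algebraic _ (x := x) (Algebra.IsAlgebraic.isAlgebraic _)
  let σ : V := algebraMap B V s
  let φ : V →ₗ[K] V := Algebra.lmul K V σ
  have hdet : LinearMap.det φ = Algebra.norm K σ := (Algebra.norm_apply K σ).symm
  have hσ : σ ≠ 0 := by rw [Ne, Ideal.algebraMap_residueField_eq_zero]; exact hs
  have key := idx_eq (R := R) hlat φ (by rw [hdet]; exact Algebra.norm_ne_zero_iff.2 hσ)
  have hle : M.map (φ.restrictScalars R) ≤ M := by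
    rintro _ ⟨_, ⟨x, rfl⟩, rfl⟩
    exact ⟨s * x, by rw [hι, map_mul]; rfl⟩
  rw [idx, qlen_of_le hle, hdet] at key
  change CycAlg.ordFrac R K (Algebra.norm K σ) = _
  rw [← key, ENat.toNat_zero, Nat.cast_zero, sub_zero, ordA]
  congr 2
  -- compare the quotients
  let N : Submodule R M := (M.map (φ.restrictScalars R)).comap M.subtype
  let g : B →ₗ[A] M ⧸ N := (N.mkQ.restrictScalars A) ∘ₗ (ι.codRestrict (M.restrictScalars A) fun b => ⟨b, rfl⟩)
  have hg : Function.Surjective g := fun z => by
    obtain ⟨⟨_, x, rfl⟩, rfl⟩ := Submodule.Quotient.mk_surjective _ z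
    exact ⟨x, rfl⟩
  have hk : LinearMap.ker g = (Q.asIdeal ⊔ Ideal.span {s}).restrictScalars A := by
    ext x
    constructor
    · intro hx
      obtain ⟨_, ⟨y, rfl⟩, hy⟩ := (Submodule.Quotient.mk_eq_zero N).1 hx
      have : x - s * y ∈ Q.asIdeal := by
        rw [← Ideal.algebraMap_residueField_eq_zero, map_sub, map_mul, sub_eq_zero]; exact hy.symm
      rw [Submodule.restrictScalars_mem, show x = (x - s * y) + y * s by ring]
      exact Submodule.add_mem_sup this (Ideal.mul_mem_left _ _ (Ideal.mem_span_singleton_self s))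
    · intro hx
      obtain ⟨u, hu, w, hw, rfl⟩ := Submodule.mem_sup.1 hx
      obtain ⟨w, rfl⟩ := Ideal.mem_span_singleton'.1 hw
      refine (Submodule.Quotient.mk_eq_zero N).2 ⟨ι w, ⟨w, rfl⟩, ?_⟩
      change σ * algebraMap B V w = algebraMap B V (u + w * s)
      rw [map_add, Ideal.algebraMap_residueField_eq_zero.2 hu, zero_add, map_mul, mul_comm]
  rw [qlen, ← Module.length_eq_of_surjective (R := R) (S := A) Ideal.Quotient.mk_surjective,
    ← (g.quotKerEquivOfSurjective hg).length_eq, (Submodule.quotEquivOfEq _ _ hk).length_eq]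
  exact (Submodule.Quotient.restrictScalarsEquiv A _).length_eq

/-- The order function given by norms. -/
noncomputable def ordFn (hB : ringKrullDim B ≤ 2) : OrdFn A B where
  ω := omega A
  mul Q hQ x y hx hy := by
    have := krullDimLE_under A Q.asIdeal (curve_of_good hB hQ)
    have : Module.Finite (Q.asIdeal.under A).ResidueField Q.asIdeal.ResidueField := inferInstance
    simp only [omega, map_mul]
    exact Groth.Agent.Lib.Cyc.Ord.ordFrac_mul (A ⧸ Q.asIdeal.under A) _ _ (Algebra.norm_ne_zero_iff.2 hx) (Algebra.norm_ne_zero_iff.2 hy)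
  apply_mk Q hQ s hs := omega_algebraMap A Q (curve_of_good hB hQ) hs

end Groth.Agent.Lib.Tame.Key.Norm
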