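import Groth.Agent.Lib.Tame.Key.Reduce
import Groth.Agent.Lib.Tame.Key.Norm
import Mathlib.RingTheory.Polynomial.ScaleRoots
import Mathlib.RingTheory.Localization.Integral

/-!
# A global lattice with factorisations at all relevant primes, and the key lemma
-/

set_option autoImplicit false

universe u

open IsLocalRing Polynomial

namespace Groth.Agent.Lib.Tame.Key.Global

open Ident Value Laws WellDef

attribute [local instance] Localization.AtPrime.algebraOfLiesOver

variable {A : Type u} [CommRing A]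

/-- `A[1/c]` at `q`. -/
abbrev Lq (c : A) (q : Ideal A) [q.IsPrime] : Type u :=
  Lattice.L (algebraMap A (Localization.AtPrime q) c)

/-- The map `A[1/c] → A_q[1/c]`. -/
noncomputable def toLq (c : A) (q : Ideal A) [q.IsPrime] : Lattice.L c →ₐ[A] Lq c q :=
  IsLocalization.liftAlgHom (M := Submonoid.powers c) (f := Algebra.ofId A (Lq c q)) fun y => by
    obtain ⟨n, hn⟩ := y.2
    rw [show (y : A) = c ^ n from hn.symm, map_pow]
    refine IsUnit.pow n ?_
    change IsUnit (algebraMap A (Lq c q) c)
    rw [IsScalarTower.algebraMap_apply A (Localization.AtPrime q) (Lq c q)]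
    exact IsLocalization.Away.algebraMap_isUnit _

variable (c : A) (q : Ideal A) [q.IsPrime]

theorem isUnit_L {a : A} (h : a ∣ c) : IsUnit (algebraMap A (Lattice.L c) a) :=
  isUnit_of_dvd_unit (map_dvd _ h) (IsLocalization.Away.algebraMap_isUnit c)

theorem toLq_surj (y : Lq c q) : ∃ s ∉ q, ∃ z : Lattice.L c, s • y = toLq c q z := by
  obtain ⟨n, r, hr⟩ := IsLocalization.Away.surj (algebraMap A (Localization.AtPrime q) c) y
  obtain ⟨r, t, rfl⟩ := IsLocalization.exists_mk'_eq q.primeCompl r
  obtain ⟨u, hu⟩ := (IsLocalization.Away.algebraMap_isUnit (S := Lattice.L c) c).pow n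
  refine ⟨t, t.2, algebraMap A _ r * ↑u⁻¹, ?_⟩
  have hu' : algebraMap A (Lq c q) c ^ n * toLq c q (↑u⁻¹ : Lattice.L c) = 1 := by
    rw [← AlgHom.commutes (toLq c q) c, ← map_pow, ← map_mul, ← hu, Units.mul_inv, map_one]
  have h1 : (t : A) • y * algebraMap A (Lq c q) c ^ n = algebraMap A (Lq c q) r := by
    rw [smul_mul_assoc, IsScalarTower.algebraMap_apply A (Localization.AtPrime q) (Lq c q) c, hr,
      Algebra.smul_def, IsScalarTower.algebraMap_apply A (Localization.AtPrime q) (Lq c q),
      ← map_mul, mul_comm, IsLocalization.mk'_spec, ← IsScalarTower.algebraMap_apply]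
  rw [map_mul, AlgHom.commutes, ← h1, mul_assoc, hu', mul_one]

theorem toLq_ker {z : Lattice.L c} (hz : toLq c q z = 0) : ∃ t ∉ q, t • z = 0 := by
  obtain ⟨n, r, hr⟩ := IsLocalization.Away.surj c z
  have h := congrArg (toLq c q) hr
  rw [map_mul, hz, zero_mul, AlgHom.commutes, IsScalarTower.algebraMap_apply A (Localization.AtPrime q) (Lq c q)] at h
  obtain ⟨⟨_, k, rfl⟩, hk⟩ := (IsLocalization.map_eq_zero_iff (Submonoid.powers (algebraMap A (Localization.AtPrime q) c)) (Lq c q) _).1 h.symm
  dsimp only at hk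
  rw [← map_pow, ← map_mul] at hk
  obtain ⟨t, ht⟩ := (IsLocalization.map_eq_zero_iff q.primeCompl (Localization.AtPrime q) _).1 hk
  refine ⟨t, t.2, ((IsLocalization.Away.algebraMap_isUnit (S := Lattice.L c) c).pow (k + n)).mul_left_eq_zero.1 ?_⟩
  rw [pow_add, Algebra.smul_def, show algebraMap A (Lattice.L c) t * z * (algebraMap A _ c ^ k * algebraMap A _ c ^ n) =
    algebraMap A _ t * (algebraMap A _ c ^ k * (z * algebraMap A _ c ^ n)) by ring, hr, ← map_pow, ← map_mul,
    ← map_mul, ht, map_zero]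

/-- Integral elements lift to integral elements. -/
theorem exists_integral_lift (y : Lq c q) (hy : IsIntegral (Localization.AtPrime q) y) :
    ∃ s ∉ q, ∃ z : Lattice.L c, IsIntegral A z ∧ s • y = toLq c q z := by
  have : Nontrivial A := ⟨0, 1, fun h => ‹q.IsPrime›.ne_top (q.eq_top_iff_one.2 (h ▸ q.zero_mem))⟩
  obtain ⟨s, hs, z, hz⟩ := toLq_surj c q y
  have hzi : IsIntegral (Localization.AtPrime q) (toLq c q z) := by
    rw [← hz, ← algebraMap_smul (Localization.AtPrime q)]
    exact hy.smul _
  obtain ⟨⟨m, hm⟩, hmi⟩ := IsIntegral.exists_multiple_integral_of_isLocalization q.primeCompl _ hzi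
  obtain ⟨P, hP, hPz⟩ := hmi
  have h0 : toLq c q (aeval (m • z) (P * X)) = 0 := by
    rw [← aeval_algHom_apply, map_mul, map_smul]
    rw [show aeval (m • toLq c q z) P = 0 from hPz, zero_mul]
  obtain ⟨t, ht, ht0⟩ := toLq_ker c q h0
  refine ⟨t * m * s, q.primeCompl.mul_mem (q.primeCompl.mul_mem ht hm) hs, t • m • z,
    ⟨(P * X).scaleRoots t, (monic_scaleRoots_iff t).2 (hP.mul monic_X), ?_⟩, ?_⟩
  · rw [show t • m • z = algebraMap A (Lattice.L c) t * (m • z) from Algebra.smul_def _ _, scaleRoots_eval₂_mul,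
      ← aeval_def, natDegree_mul_X hP.ne_zero, pow_succ, mul_assoc]
    rw [← Algebra.smul_def (R := A), ht0, mul_zero]
  · rw [map_smul, map_smul, ← hz, smul_smul, smul_smul]

variable [IsLocalRing A] [IsNoetherianRing A]

theorem ordFrac_one {R : Type u} [CommRing R] (K : Type u) [Field K] [Algebra R K] : CycAlg.ordFrac R K (1 : K) = 0 := by
  rw [CycAlg.ordFrac]
  split_ifs
  · rw [map_one]; rfl
  · rfl

theorem omega_eq {B : Type u} [CommRing B] [Algebra A B] (Q : PrimeSpectrum B) [Q.asIdeal.LiesOver q]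
    (x : ResidueField (Localization.AtPrime Q.asIdeal)) :
    Norm.omega A Q x = CycAlg.ordFrac (A ⧸ q) q.ResidueField
      (Algebra.norm q.ResidueField (show Q.asIdeal.ResidueField from x)) := by
  obtain rfl : q = Q.asIdeal.under A := ‹Q.asIdeal.LiesOver q›.over
  rfl

/-- A factorisation pulled back along an isomorphism. -/
theorem exists_fac_symm {R S : Type u} [CommRing R] [CommRing S] (e : R ≃+* S) {a b : R} (G : Fac S (e a) (e b)) :
    Nonempty (Fac R a b) :=
  ⟨(G.map e.symm.toRingHom (mem_nonZeroDivisors_iff_right.2 fun y hy => (map_eq_zero_iff _ e.injective).1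
    ((mul_right_mem_nonZeroDivisors_eq_zero_iff G.hπ).1 (by
      rw [← e.apply_symm_apply G.π, ← map_mul]
      exact (congrArg e hy).trans (map_zero e))))).cast (e.symm_apply_apply a) (e.symm_apply_apply b)⟩

/-- Invariance of the tame symbol under isomorphisms. -/
theorem tameSymbol_ringEquiv {R S : Type u} [CommRing R] [IsLocalRing R] [IsNoetherianRing R] [Ring.KrullDimLE 1 R]
    [CommRing S] [IsLocalRing S] [IsNoetherianRing S] [Ring.KrullDimLE 1 S] (e : R ≃+* S) {a b : R}
    (F : Fac R a b) :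
    CycAlg.tameSymbol S (e a) (e b) = ResidueField.mapEquiv e (CycAlg.tameSymbol R a b) := by
  have hπ : e F.π ∈ nonZeroDivisors S := mem_nonZeroDivisors_iff_right.2 fun y hy => by
    obtain ⟨x, rfl⟩ := e.surjective y
    rw [← map_mul, map_eq_zero_iff _ e.injective] at hy
    rw [(mul_right_mem_nonZeroDivisors_eq_zero_iff F.hπ).1 hy, map_zero]
  rw [tameSymbol_eq_val F]
  refine (tameSymbol_eq_val (F.map e.toRingHom hπ)).trans ?_
  simp only [Fac.val, map_pow]
  congr 1
  · simp only [Fac.base, map_mul, map_pow, map_inv₀, map_neg, map_one]; rfl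
  · exact congrArg ENat.toNat (Extension.ord_ringEquiv e F.π)

section Embedded

variable {R : Type u} [CommRing R] [IsLocalRing R] [IsNoetherianRing R] [Ring.KrullDimLE 1 R] {d : R}
  (hd : d ∈ nonZeroDivisors R) (hdm : d ∈ maximalIdeal R) {T : Type u} [CommRing T] [Algebra R T] [Module.Finite R T]
  (g : T →ₐ[R] Lattice.L d) (hg : Function.Injective g)
include hg

omit [IsLocalRing R] [IsNoetherianRing R] [Ring.KrullDimLE 1 R] [Module.Finite R T] in
theorem algebraMap_mem_nonZeroDivisors : algebraMap R T d ∈ nonZeroDivisors T := by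
  rw [mem_nonZeroDivisors_iff_right]
  intro y hy
  refine hg (((IsLocalization.Away.algebraMap_isUnit (S := Lattice.L d) d).mul_left_eq_zero.1 ?_).trans
    (map_zero g).symm)
  rw [← g.commutes, ← map_mul, hy, map_zero]

include hd hdm

/-- A finite algebra inside `R[1/d]` is a finite extension without embedded closed point. -/
theorem ext_data : CycAlg.IsFinExt R T (maximalIdeal R) ∧ maximalIdeal R ∉ associatedPrimes R T := by
  refine ⟨?_, fun h => ?_⟩
  · have hrange : g.range.toSubmodule.FG := by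
      rw [show g.range.toSubmodule = LinearMap.range g.toLinearMap by ext; rfl, LinearMap.range_eq_map]
      exact Module.Finite.fg_top.map _
    obtain ⟨h1, -, n, hn⟩ := Lattice.isFinExt hd hdm hrange
    refine ⟨fun x y e => h1 (Subtype.ext ?_), inferInstance, n, fun r hr x => ?_⟩
    · change algebraMap R (Lattice.L d) x = algebraMap R (Lattice.L d) y
      rw [← g.commutes, ← g.commutes, e]
    · obtain ⟨w, hw⟩ := hn r hr ⟨g x, x, rfl⟩
      exact ⟨w, hg (by rw [g.commutes, map_smul]; exact congrArg Subtype.val hw)⟩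
  · obtain ⟨hp, x, hx⟩ := Submodule.isAssociatedPrime_def.1 h
    rw [hx] at hdm
    obtain ⟨n, hn⟩ := hdm
    have hn' : (d ^ n) • x = 0 := (Submodule.mem_bot R).1 (Submodule.mem_colon_singleton.1 hn)
    rw [Algebra.smul_def, map_pow] at hn'
    have hx0 : x = 0 := (mul_left_mem_nonZeroDivisors_eq_zero_iff
      (pow_mem (algebraMap_mem_nonZeroDivisors g hg) n)).1 hn'
    have hcol : (⊥ : Submodule R T).colon {x} = ⊤ := eq_top_iff.2 fun r _ => Submodule.mem_colon_singleton.2
      ((Submodule.mem_bot R).2 (by rw [hx0, smul_zero]))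
    exact hp.ne_top (hx.trans ((congrArg Ideal.radical hcol).trans (Ideal.radical_top R)))

set_option maxHeartbeats 400000 in
omit hd in
/-- Factorisations propagate to larger lattices. -/
theorem exists_fac_of_le {a b : R} (hab : d = a * b) (Y : Subalgebra R (Lattice.L d)) (hY : Y.toSubmodule.FG)
    (hle : Y ≤ g.range)
    (hfac : ∀ k : MaximalSpectrum Y, ∃ π : Localization.AtPrime k.asIdeal, π ∈ nonZeroDivisors _ ∧
      ∀ s ∈ ({a, b} : Set R), ∃ (v : (Localization.AtPrime k.asIdeal)ˣ) (e : ℕ),
          algebraMap R (Localization.AtPrime k.asIdeal) s = v * π ^ e)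
    (K : MaximalSpectrum T) :
    Nonempty (Fac (Localization.AtPrime K.asIdeal) (algebraMap R _ a) (algebraMap R _ b)) := by
  let h : Y →ₐ[R] T := (AlgEquiv.ofInjective g hg).symm.toAlgHom.comp (Subalgebra.inclusion hle)
  have : Module.Finite R Y := Module.Finite.iff_fg.2 hY
  have hmax : (K.asIdeal.comap h).IsMaximal := by
    refine Ideal.isMaximal_of_isIntegral_of_isMaximal_comap (R := R) _ ?_
    rw [show (K.asIdeal.comap h).comap (algebraMap R Y) = K.asIdeal.comap (algebraMap R T) by
      ext x; simp [Ideal.mem_comap], Lattice.comap_eq_maximalIdeal (A := R) K.asIdeal]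
    infer_instance
  obtain ⟨π, hπ, hs⟩ := hfac ⟨K.asIdeal.comap h, hmax⟩
  obtain ⟨v₁, e₁, he₁⟩ := hs a (by simp)
  obtain ⟨v₂, e₂, he₂⟩ := hs b (by simp)
  let hk := Localization.localRingHom (K.asIdeal.comap h) K.asIdeal h.toRingHom rfl
  have hk' : ∀ x : R, hk (algebraMap R _ x) = algebraMap R (Localization.AtPrime K.asIdeal) x := fun x => by
    rw [IsScalarTower.algebraMap_apply R Y (Localization.AtPrime (K.asIdeal.comap h)),
      IsScalarTower.algebraMap_apply R T (Localization.AtPrime K.asIdeal)]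
    exact (Localization.localRingHom_to_map _ _ _ _ _).trans (congrArg _ (h.commutes x))
  let F₀ : Fac (Localization.AtPrime (K.asIdeal.comap h)) (algebraMap R _ a) (algebraMap R _ b) :=
    ⟨π, hπ, v₁, v₂, e₁, e₂, he₁, he₂⟩
  have hreg : algebraMap R (Localization.AtPrime K.asIdeal) d ∈ nonZeroDivisors (Localization.AtPrime K.asIdeal) := by
    rw [IsScalarTower.algebraMap_apply R T (Localization.AtPrime K.asIdeal)]
    exact IsLocalization.map_nonZeroDivisors_le K.asIdeal.primeCompl _ ⟨_, algebraMap_mem_nonZeroDivisors g hg, rfl⟩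
  have hcπ : algebraMap R (Localization.AtPrime K.asIdeal) d = hk ↑(v₁ * v₂) * hk π ^ (e₁ + e₂) := by
    rw [congrArg (algebraMap R (Localization.AtPrime K.asIdeal)) hab, map_mul, ← hk', ← hk', ← map_mul, he₁, he₂, ← map_pow, ← map_mul, Units.val_mul, pow_add]
    congr 1; ring
  have hne : e₁ + e₂ ≠ 0 := fun h0 => by
    rw [h0, pow_zero, mul_one] at hcπ
    have hm : algebraMap R (Localization.AtPrime K.asIdeal) d ∈ maximalIdeal _ := by
      rw [IsScalarTower.algebraMap_apply R T (Localization.AtPrime K.asIdeal),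
        IsLocalization.AtPrime.to_map_mem_maximal_iff (Localization.AtPrime K.asIdeal) K.asIdeal]
      exact (Lattice.comap_eq_maximalIdeal (A := R) K.asIdeal).ge hdm
    exact hm (hcπ ▸ (v₁ * v₂).isUnit.map hk)
  have hπK : hk F₀.π ∈ nonZeroDivisors (Localization.AtPrime K.asIdeal) := by
    obtain ⟨n, hn⟩ := Nat.exists_eq_succ_of_ne_zero hne
    rw [hcπ, hn, pow_succ'] at hreg
    exact (mul_mem_nonZeroDivisors.1 (mul_mem_nonZeroDivisors.1 hreg).2).1
  exact ⟨(F₀.map hk hπK).cast (hk' _) (hk' _)⟩

end Embedded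

variable {c} {q}

set_option maxHeartbeats 800000 in
/-- The germ at `q`, given local generators inside a global lattice. -/
theorem term_eq [Ring.KrullDimLE 1 (Localization.AtPrime q)] [Ring.KrullDimLE 1 (A ⧸ q)] {a b : A} (hab : c = a * b)
    (ha : a ∈ nonZeroDivisors A) (hb : b ∈ nonZeroDivisors A) (hcq : c ∈ q)
    {B : Type u} [CommRing B] [Algebra A B] [Module.Finite A B] (ι : B →ₐ[A] Lattice.L c) (hι : Function.Injective ι)
    (Y : Subalgebra (Localization.AtPrime q) (Lq c q)) (hY : Y.toSubmodule.FG)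
    (hfac : ∀ k : MaximalSpectrum Y, ∃ π : Localization.AtPrime k.asIdeal, π ∈ nonZeroDivisors _ ∧
      ∀ s ∈ ({algebraMap A (Localization.AtPrime q) a, algebraMap A (Localization.AtPrime q) b} :
        Set (Localization.AtPrime q)), ∃ (v : (Localization.AtPrime k.asIdeal)ˣ) (e : ℕ),
          algebraMap (Localization.AtPrime q) (Localization.AtPrime k.asIdeal) s = v * π ^ e)
    (hlift : ∀ y ∈ Y, ∃ s ∉ q, ∃ z : B, s • y = toLq c q (ι z))
    (F : Finset (PrimeSpectrum B)) (hF : ∀ Q, Q ∈ F ↔ Q.asIdeal.under A = q) :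
    (∀ Q ∈ F, Nonempty (Fac (Localization.AtPrime Q.asIdeal) (algebraMap B _ (algebraMap A B a))
      (algebraMap B _ (algebraMap A B b)))) ∧
    CycAlg.ordFrac (A ⧸ q) q.ResidueField (CycAlg.tameSymbol (Localization.AtPrime q)
      (algebraMap A _ a) (algebraMap A _ b)) =
      ∑ Q ∈ F, Norm.omega A Q (CycAlg.tameSymbol (Localization.AtPrime Q.asIdeal)
        (algebraMap B _ (algebraMap A B a)) (algebraMap B _ (algebraMap A B b))) := by
  classical
  let R := Localization.AtPrime q
  have hRreg : ∀ x : A, x ∈ nonZeroDivisors A → algebraMap A R x ∈ nonZeroDivisors R :=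
    fun x hx => IsLocalization.map_nonZeroDivisors_le q.primeCompl R ⟨x, hx, rfl⟩
  have hcR : algebraMap A R c ∈ nonZeroDivisors R := hRreg c (hab ▸ mul_mem ha hb)
  have hcRm : algebraMap A R c ∈ maximalIdeal R := (IsLocalization.AtPrime.to_map_mem_maximal_iff R q c).2 hcq
  let M := Algebra.algebraMapSubmonoid B q.primeCompl
  let T := Localization M
  have hψu : ∀ y : M, IsUnit (((toLq c q).comp ι).toRingHom y) := by
    rintro ⟨_, s, hs, rfl⟩
    change IsUnit (((toLq c q).comp ι) (algebraMap A B s))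
    rw [AlgHom.commutes, IsScalarTower.algebraMap_apply A R (Lq c q)]
    exact (IsLocalization.map_units R (⟨s, hs⟩ : q.primeCompl)).map _
  have : Module.Finite R T := Module.Finite.of_isLocalization A B q.primeCompl
  let g₀ : T →+* Lq c q := IsLocalization.lift hψu
  have hg₀ : ∀ x : B, g₀ (algebraMap B T x) = toLq c q (ι x) := fun x => IsLocalization.lift_eq hψu x
  have hcomm : g₀.comp (algebraMap R T) = algebraMap R (Lq c q) := by
    refine IsLocalization.ringHom_ext q.primeCompl (RingHom.ext fun x => ?_)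
    simp only [RingHom.comp_apply]
    rw [← IsScalarTower.algebraMap_apply A R T, IsScalarTower.algebraMap_apply A B T, hg₀,
      ← IsScalarTower.algebraMap_apply A R (Lq c q), ι.commutes]
    exact (toLq c q).commutes x
  let g : T →ₐ[R] Lq c q := AlgHom.mk g₀ fun x => RingHom.congr_fun hcomm x
  have hg : Function.Injective g := by
    rw [injective_iff_map_eq_zero]
    intro x hx
    obtain ⟨y, s, rfl⟩ := IsLocalization.exists_mk'_eq M x
    have h0 : toLq c q (ι y) = 0 := by
      have h := congrArg g₀ (IsLocalization.mk'_spec T y s)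
      rw [map_mul, hg₀, show g₀ (IsLocalization.mk' T y s) = 0 from hx, zero_mul] at h
      exact (hg₀ y).symm.trans h.symm
    obtain ⟨t, ht, ht0⟩ := toLq_ker c q h0
    exact (IsLocalization.mk'_eq_zero_iff y s).2
      ⟨⟨algebraMap A B t, t, ht, rfl⟩, hι (by rw [← Algebra.smul_def, map_smul, map_zero]; exact ht0)⟩
  have hYle : Y ≤ g.range := fun y hy => by
    obtain ⟨s, hs, z, hsz⟩ := hlift y hy
    obtain ⟨u, hu⟩ := IsLocalization.map_units R (⟨s, hs⟩ : q.primeCompl)
    refine ⟨(↑u⁻¹ : R) • algebraMap B T z, ?_⟩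
    change g ((↑u⁻¹ : R) • algebraMap B T z) = y
    rw [map_smul, show g (algebraMap B T z) = toLq c q (ι z) from hg₀ _, ← hsz,
      ← algebraMap_smul R s y, smul_smul, ← hu, Units.inv_mul, one_smul]
  obtain ⟨hText, hass⟩ := ext_data hcR hcRm g hg
  have hFT : ∀ K : MaximalSpectrum T, Nonempty (Fac (Localization.AtPrime K.asIdeal)
      (algebraMap R _ (algebraMap A R a)) (algebraMap R _ (algebraMap A R b))) :=
    exists_fac_of_le hcRm g hg (by rw [hab, map_mul]) Y hY hYle hfac
  -- closed points of `T`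
  let κ (K : MaximalSpectrum T) : PrimeSpectrum B := ⟨K.asIdeal.comap (algebraMap B T), inferInstance⟩
  have hκ : ∀ K, (κ K).asIdeal.under A = q := fun K => by
    change (K.asIdeal.comap (algebraMap B T)).comap (algebraMap A B) = q
    rw [Ideal.comap_comap, ← IsScalarTower.algebraMap_eq, IsScalarTower.algebraMap_eq A R T, ← Ideal.comap_comap,
      Lattice.comap_eq_maximalIdeal (A := R) K.asIdeal]
    exact IsLocalization.AtPrime.under_maximalIdeal R q
  have hκi : Function.Injective κ := fun K K' h => MaximalSpectrum.ext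
    ((IsLocalization.map_under M T K.asIdeal).symm.trans
      ((congrArg (Ideal.map (algebraMap B T)) (congrArg PrimeSpectrum.asIdeal h)).trans
        (IsLocalization.map_under M T K'.asIdeal)))
  have hκs : ∀ Q ∈ F, ∃ K, κ K = Q := fun Q hQ => by
    have hQq := (hF Q).1 hQ
    have hdis : Disjoint (M : Set B) (Q.asIdeal : Set B) := by
      rw [Set.disjoint_left]
      rintro _ ⟨s, hs, rfl⟩ hm
      exact hs (hQq ▸ (hm : s ∈ Q.asIdeal.under A))
    have hP := IsLocalization.isPrime_of_isPrime_disjoint M T Q.asIdeal inferInstance hdis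
    have hcm := IsLocalization.under_map_of_isPrime_disjoint M T inferInstance hdis
    have hmax : (Ideal.map (algebraMap B T) Q.asIdeal).IsMaximal := by
      refine Ideal.isMaximal_of_isIntegral_of_isMaximal_comap (R := R) _ ?_
      have h0 : ((Ideal.map (algebraMap B T) Q.asIdeal).comap (algebraMap R T)).comap (algebraMap A R) =
          (maximalIdeal R).comap (algebraMap A R) := by
        refine Eq.trans ?_ (IsLocalization.AtPrime.under_maximalIdeal R q).symm
        rw [Ideal.comap_comap, ← IsScalarTower.algebraMap_eq, IsScalarTower.algebraMap_eq A B T, ← Ideal.comap_comap]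
        exact (congrArg (Ideal.comap (algebraMap A B)) hcm).trans hQq
      rw [(IsLocalization.map_under q.primeCompl R _).symm.trans
        ((congrArg (Ideal.map (algebraMap A R)) h0).trans (IsLocalization.map_under q.primeCompl R _))]
      infer_instance
    exact ⟨⟨_, hmax⟩, PrimeSpectrum.ext hcm⟩
  have hloc : ∀ K : MaximalSpectrum T, IsLocalization.AtPrime (Localization.AtPrime K.asIdeal) (κ K).asIdeal := fun K =>
    IsLocalization.isLocalization_isLocalization_atPrime_isLocalization M (Localization.AtPrime K.asIdeal) K.asIdeal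
  let e (K : MaximalSpectrum T) : Localization.AtPrime (κ K).asIdeal ≃+* Localization.AtPrime K.asIdeal :=
    haveI := hloc K
    (IsLocalization.algEquiv (κ K).asIdeal.primeCompl _ (Localization.AtPrime K.asIdeal)).toRingEquiv
  have he : ∀ (K : MaximalSpectrum T) (x : A), e K (algebraMap B _ (algebraMap A B x)) =
      algebraMap R (Localization.AtPrime K.asIdeal) (algebraMap A R x) := fun K x => by
    have := hloc K
    have h1 : e K (algebraMap B _ (algebraMap A B x)) = algebraMap B _ (algebraMap A B x) :=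
      (IsLocalization.algEquiv (κ K).asIdeal.primeCompl _ (Localization.AtPrime K.asIdeal)).commutes _
    rw [h1, IsScalarTower.algebraMap_apply B T (Localization.AtPrime K.asIdeal),
      ← IsScalarTower.algebraMap_apply A B T, IsScalarTower.algebraMap_apply A R T,
      ← IsScalarTower.algebraMap_apply R T (Localization.AtPrime K.asIdeal)]
  have hdimK : ∀ K : MaximalSpectrum T, Ring.KrullDimLE 1 (Localization.AtPrime K.asIdeal) :=
    fun K => krullDimLE_atPrime (A := R) K.asIdeal
  refine ⟨fun Q hQ => ?_, ?_⟩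
  · obtain ⟨K, rfl⟩ := hκs Q hQ
    obtain ⟨G⟩ := hFT K
    exact exists_fac_symm (e K) (G.cast (he K a).symm (he K b).symm)
  have := Lattice.finite_maximalSpectrum R T
  have := Fintype.ofFinite (MaximalSpectrum T)
  rw [Extension.tameSymbol_eq_finprod_norm hText hass (hRreg a ha) (hRreg b hb), finprod_eq_prod_of_fintype]
  have hover : ∀ K, (κ K).asIdeal.LiesOver q := fun K => ⟨(hκ K).symm⟩
  let val (K : MaximalSpectrum T) : q.ResidueField := nrm (A := R) K (CycAlg.tameSymbol (Localization.AtPrime K.asIdeal)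
    (algebraMap R _ (algebraMap A R a)) (algebraMap R _ (algebraMap A R b)))
  have hval : ∀ K, val K = Algebra.norm q.ResidueField
      (show (κ K).asIdeal.ResidueField from CycAlg.tameSymbol (Localization.AtPrime (κ K).asIdeal)
        (algebraMap B _ (algebraMap A B a)) (algebraMap B _ (algebraMap A B b))) := fun K => by
    have := hloc K
    have := Lattice.isLocalHom_atPrime (A := R) K.asIdeal
    have := hdimK K
    have : IsNoetherianRing B := isNoetherian_of_tower A inferInstance
    have : (κ K).asIdeal.LiesOver q := ⟨(hκ K).symm⟩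
    have hdim' : Ring.KrullDimLE 1 (Localization.AtPrime (κ K).asIdeal) := by
      rw [Ring.krullDimLE_iff, ringKrullDim_eq_of_ringEquiv (e K)]
      exact Ring.krullDimLE_iff.1 (hdimK K)
    obtain ⟨G⟩ := hFT K
    obtain ⟨G'⟩ := exists_fac_symm (e K) (G.cast (he K a).symm (he K b).symm)
    change Algebra.norm (ResidueField R) _ = _
    rw [← he K a, ← he K b, tameSymbol_ringEquiv (e K) G']
    refine (Algebra.norm_eq_of_equiv_equiv (RingEquiv.refl q.ResidueField) (ResidueField.mapEquiv (e K)) ?_ _).symm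
    refine RingHom.ext fun x => ?_
    obtain ⟨x, rfl⟩ := residue_surjective x
    obtain ⟨r, t, rfl⟩ := IsLocalization.exists_mk'_eq q.primeCompl x
    change residue _ (algebraMap R (Localization.AtPrime K.asIdeal) (IsLocalization.mk' R r t)) =
      residue _ (e K (algebraMap R (Localization.AtPrime (κ K).asIdeal) (IsLocalization.mk' R r t)))
    congr 1
    refine RingHom.congr_fun (IsLocalization.ringHom_ext q.primeCompl (j := algebraMap R (Localization.AtPrime K.asIdeal))
      (k := (e K).toRingHom.comp (algebraMap R (Localization.AtPrime (κ K).asIdeal))) (RingHom.ext fun z => ?_)) _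
    change algebraMap R _ (algebraMap A R z) = e K (algebraMap R _ (algebraMap A R z))
    rw [← IsScalarTower.algebraMap_apply A R (Localization.AtPrime (κ K).asIdeal),
      IsScalarTower.algebraMap_apply A B (Localization.AtPrime (κ K).asIdeal), he]
  have hnn : ∀ K, val K ≠ 0 := fun K => by
    have : (κ K).asIdeal.LiesOver q := ⟨(hκ K).symm⟩
    have : Module.Finite q.ResidueField (κ K).asIdeal.ResidueField := inferInstance
    rw [hval K]
    exact Algebra.norm_ne_zero_iff.2 (tameSymbol_ne_zero _ _)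
  have hprod : ∀ s : Finset (MaximalSpectrum T), CycAlg.ordFrac (A ⧸ q) q.ResidueField (∏ K ∈ s, val K) =
      ∑ K ∈ s, CycAlg.ordFrac (A ⧸ q) q.ResidueField (val K) := fun s => by
    induction s using Finset.induction_on with
    | empty => rw [Finset.prod_empty, Finset.sum_empty]; exact ordFrac_one _
    | insert K s hK ih =>
      rw [Finset.sum_insert hK, ← ih, Finset.prod_insert hK]
      exact Groth.Agent.Lib.Cyc.Ord.ordFrac_mul (A ⧸ q) _ _ (hnn K) (Finset.prod_ne_zero_iff.2 fun i _ => hnn i)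
  refine (hprod Finset.univ).trans ?_
  refine Finset.sum_bij (fun K _ => κ K) (fun K _ => (hF _).2 (hκ K)) (fun K _ K' _ h => hκi h)
    (fun Q hQ => by obtain ⟨K, hK⟩ := hκs Q hQ; exact ⟨K, Finset.mem_univ _, hK⟩) fun K _ => ?_
  have : (κ K).asIdeal.LiesOver q := ⟨(hκ K).symm⟩
  rw [omega_eq q (κ K), hval K]

/-- The key lemma. -/
theorem finsum_ord_tameSymbol_eq_zero (hA : ringKrullDim A = 2) {a b : A} (ha : a ∈ nonZeroDivisors A)
    (hb : b ∈ nonZeroDivisors A) :
    ∑ᶠ (q : PrimeSpectrum A) (_ : q.asIdeal.height = 1), CycAlg.ordFrac (A ⧸ q.asIdeal) q.asIdeal.ResidueField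
      (CycAlg.tameSymbol (Localization.AtPrime q.asIdeal) (algebraMap A (Localization.AtPrime q.asIdeal) a)
        (algebraMap A (Localization.AtPrime q.asIdeal) b)) = 0 := by
  classical
  have hab := mul_mem ha hb
  have hfin := finite_cset hA.le hab
  have hT : ∀ q ∈ hfin.toFinset, q ∈ cset (a * b) := fun q hq => hfin.mem_toFinset.1 hq
  -- restrict to the primes containing `a b`
  refine (finsum_mem_eq_sum_of_inter_support_eq _ (s := {q : PrimeSpectrum A | q.asIdeal.height = 1}) (t := hfin.toFinset) (by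
    ext q
    constructor
    · rintro ⟨h1, h2⟩
      have hnm : ¬ q.asIdeal.IsMaximal := fun hm => by
        change q.asIdeal.height = 1 at h1
        rw [eq_maximalIdeal hm] at h1
        have := maximalIdeal_height_eq_ringKrullDim (R := A)
        rw [h1, hA] at this
        exact absurd this (by decide)
      refine ⟨hfin.mem_toFinset.2 ⟨hnm, ?_⟩, h2⟩
      by_contra hne
      have := krullDimLE_atPrime hA.le q hnm
      refine h2 ?_
      dsimp only
      rw [tameSymbol_of_isUnit
        ((IsLocalization.AtPrime.isUnit_to_map_iff (Localization.AtPrime q.asIdeal) q.asIdeal a).2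
          fun h => hne (Ideal.mul_mem_right _ _ h))
        ((IsLocalization.AtPrime.isUnit_to_map_iff (Localization.AtPrime q.asIdeal) q.asIdeal b).2
          fun h => hne (Ideal.mul_mem_left _ _ h))]
      exact ordFrac_one _
    · rintro ⟨h1, h2⟩
      obtain ⟨hnm, hm⟩ := hT q h1
      refine ⟨?_, h2⟩
      have := krullDimLE_atPrime hA.le q hnm
      refine le_antisymm (WithBot.coe_le_coe.1 ?_) (Order.one_le_iff_pos.2 (pos_iff_ne_zero.2 fun h0 => ?_))
      · rw [← IsLocalization.AtPrime.ringKrullDim_eq_height q.asIdeal (Localization.AtPrime q.asIdeal)]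
        exact Ring.krullDimLE_iff.1 this
      · exact Set.disjoint_left.1 (Ideal.disjoint_nonZeroDivisors_of_mem_minimalPrimes
          (Ideal.height_eq_zero_iff.1 h0)) hm hab)).trans ?_
  -- local generators
  have hloc : ∀ q ∈ hfin.toFinset, ∃ (Y : Subalgebra (Localization.AtPrime q.asIdeal) (Lq (a * b) q.asIdeal))
      (Z : Finset (Lattice.L (a * b))), Y.toSubmodule.FG ∧ (∀ z ∈ Z, IsIntegral A z) ∧
      (∀ k : MaximalSpectrum Y, ∃ π : Localization.AtPrime k.asIdeal, π ∈ nonZeroDivisors _ ∧
        ∀ s ∈ ({algebraMap A (Localization.AtPrime q.asIdeal) a, algebraMap A (Localization.AtPrime q.asIdeal) b} :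
          Set (Localization.AtPrime q.asIdeal)), ∃ (v : (Localization.AtPrime k.asIdeal)ˣ) (e : ℕ),
            algebraMap (Localization.AtPrime q.asIdeal) (Localization.AtPrime k.asIdeal) s = v * π ^ e) ∧
      ∀ y ∈ Y, ∃ s ∉ q.asIdeal, ∃ z ∈ Submodule.span A (↑Z : Set (Lattice.L (a * b))), s • y = toLq (a * b) q.asIdeal z := by
    intro q hq
    let R := Localization.AtPrime q.asIdeal
    obtain ⟨hnm, hm⟩ := hT q hq
    have := krullDimLE_atPrime hA.le q hnm
    have hcR : algebraMap A R (a * b) ∈ nonZeroDivisors R :=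
      IsLocalization.map_nonZeroDivisors_le q.asIdeal.primeCompl R ⟨_, hab, rfl⟩
    have hcRm : algebraMap A R (a * b) ∈ maximalIdeal R := (IsLocalization.AtPrime.to_map_mem_maximal_iff R q.asIdeal _).2 hm
    have hbot : (⊥ : Subalgebra R (Lq (a * b) q.asIdeal)).toSubmodule.FG := by
      rw [Algebra.toSubmodule_bot, Submodule.one_eq_span]; exact Submodule.fg_span_singleton _
    obtain ⟨Y, -, hY, hfac⟩ := exists_fac hcR hcRm hbot {algebraMap A R a, algebraMap A R b} (fun s hs => by
      rcases Finset.mem_insert.1 hs with rfl | hs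
      · exact Exist.isUnit_of_dvd (map_dvd _ (dvd_mul_right a b))
      · rw [Finset.mem_singleton.1 hs]; exact Exist.isUnit_of_dvd (map_dvd _ (dvd_mul_left b a)))
    have : Module.Finite R Y := Module.Finite.iff_fg.2 hY
    obtain ⟨G, hG⟩ := hY
    have hint : ∀ y ∈ G, ∃ s ∉ q.asIdeal, ∃ z, IsIntegral A z ∧ s • y = toLq (a * b) q.asIdeal z := fun y hy =>
      exists_integral_lift (a * b) q.asIdeal y (by
        have hyY : y ∈ Y := show y ∈ Y.toSubmodule from hG ▸ Submodule.subset_span hy
        exact (IsIntegral.of_finite R (⟨y, hyY⟩ : Y)).map Y.val)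
    choose! s hs z hz hsz using hint
    refine ⟨Y, G.image z, ⟨G, hG⟩, fun w hw => ?_, fun k => ?_, fun y hy => ?_⟩
    · obtain ⟨y, hy, rfl⟩ := Finset.mem_image.1 hw
      exact hz y hy
    · obtain ⟨π, hπ, h⟩ := hfac k
      exact ⟨π, hπ, fun t ht => h t (by simpa using ht)⟩
    · have hy' : y ∈ Submodule.span R (↑G : Set (Lq (a * b) q.asIdeal)) := hG.symm ▸ hy
      clear hy
      induction hy' using Submodule.span_induction with
      | mem y hy => exact ⟨s y, hs y hy, z y, Submodule.subset_span (Finset.mem_image_of_mem z hy), hsz y hy⟩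
      | zero => exact ⟨1, fun h => q.2.ne_top ((Ideal.eq_top_iff_one _).2 h), 0, zero_mem _, by rw [smul_zero, map_zero]⟩
      | add x y hx' hy' ihx ihy =>
        obtain ⟨s₁, h₁, z₁, hz₁, e₁⟩ := ihx
        obtain ⟨s₂, h₂, z₂, hz₂, e₂⟩ := ihy
        refine ⟨s₁ * s₂, q.asIdeal.primeCompl.mul_mem h₁ h₂, s₂ • z₁ + s₁ • z₂,
          add_mem (Submodule.smul_mem _ _ hz₁) (Submodule.smul_mem _ _ hz₂), ?_⟩
        rw [smul_add, map_add, map_smul, map_smul, ← e₁, ← e₂, smul_smul, smul_smul, mul_comm s₂ s₁]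
      | smul r x hx' ihx =>
        obtain ⟨s₁, h₁, z₁, hz₁, e₁⟩ := ihx
        obtain ⟨r, t, rfl⟩ := IsLocalization.exists_mk'_eq q.asIdeal.primeCompl r
        refine ⟨(t : A) * s₁, q.asIdeal.primeCompl.mul_mem t.2 h₁, r • z₁, Submodule.smul_mem _ _ hz₁, ?_⟩
        rw [map_smul, ← e₁, mul_smul, smul_comm s₁ (IsLocalization.mk' R r t) x, ← algebraMap_smul R (t : A),
          smul_smul, mul_comm (algebraMap A R t), IsLocalization.mk'_spec, algebraMap_smul]
  choose! Y Z hY hZ hfac hlift using hloc
  let S : Finset (Lattice.L (a * b)) := hfin.toFinset.biUnion Z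
  have hS : ∀ z ∈ (↑S : Set (Lattice.L (a * b))), IsIntegral A z := fun z hz => by
    obtain ⟨q, hq, hzq⟩ := Finset.mem_biUnion.1 hz
    exact hZ q hq z hzq
  let B := Algebra.adjoin A (↑S : Set (Lattice.L (a * b)))
  have : Module.Finite A B := Module.Finite.iff_fg.2 (fg_adjoin_of_finite S.finite_toSet hS)
  have hB : ringKrullDim B ≤ 2 :=
    (Groth.Agent.Lib.Dim.Integral.ringKrullDim_le_of_isIntegral (R := A) (A := B)).trans hA.le
  have : IsNoetherianRing B := isNoetherian_of_tower A inferInstance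
  have hBreg : ∀ x : A, x ∣ a * b → algebraMap A B x ∈ nonZeroDivisors B := fun x hx => by
    rw [mem_nonZeroDivisors_iff_right]
    intro y hy
    exact Subtype.ext ((isUnit_L (a * b) hx).mul_left_eq_zero.1 (congrArg Subtype.val hy))
  have haB := hBreg a (dvd_mul_right a b)
  have hbB := hBreg b (dvd_mul_left b a)
  have hfinB := finite_cset hB (mul_mem haB hbB)
  let FB (q : PrimeSpectrum A) := hfinB.toFinset.filter fun Q => Q.asIdeal.under A = q.asIdeal
  have hsp : ∀ q ∈ hfin.toFinset, Submodule.span A (↑(Z q) : Set (Lattice.L (a * b))) ≤ B.toSubmodule :=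
    fun q hq => Submodule.span_le.2 fun z hz => Algebra.subset_adjoin (Finset.mem_biUnion.2 ⟨q, hq, hz⟩)
  have key : ∀ q ∈ hfin.toFinset,
      (∀ Q ∈ FB q, Nonempty (Fac (Localization.AtPrime Q.asIdeal) (algebraMap B _ (algebraMap A B a))
        (algebraMap B _ (algebraMap A B b)))) ∧
      CycAlg.ordFrac (A ⧸ q.asIdeal) q.asIdeal.ResidueField (CycAlg.tameSymbol (Localization.AtPrime q.asIdeal)
        (algebraMap A _ a) (algebraMap A _ b)) =
      ∑ Q ∈ FB q, Norm.omega A Q (CycAlg.tameSymbol (Localization.AtPrime Q.asIdeal)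
        (algebraMap B _ (algebraMap A B a)) (algebraMap B _ (algebraMap A B b))) := by
    intro q hq
    obtain ⟨hnm, hm⟩ := hT q hq
    have := krullDimLE_atPrime hA.le q hnm
    have hcur : Ring.KrullDimLE 1 (A ⧸ q.asIdeal) := by
      have := Norm.krullDimLE_under A q.asIdeal (curve_of_good hA.le (cset_good hab (hT q hq)))
      rwa [show q.asIdeal.under A = q.asIdeal from Ideal.comap_id _] at this
    refine term_eq rfl ha hb hm B.val Subtype.val_injective (Y q) (hY q hq) (hfac q hq) (fun y hy => ?_) (FB q) fun Q => ?_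
    · obtain ⟨s, hs, z, hz, e⟩ := hlift q hq y hy
      exact ⟨s, hs, ⟨z, hsp q hq hz⟩, e⟩
    · refine ⟨fun h => (Finset.mem_filter.1 h).2, fun h => Finset.mem_filter.2 ⟨hfinB.mem_toFinset.2 ⟨fun hQm => ?_, ?_⟩, h⟩⟩
      · exact hnm (h ▸ Ideal.isMaximal_comap_of_isIntegral_of_isMaximal Q.asIdeal)
      · rw [← map_mul]
        exact (h.symm ▸ hm : a * b ∈ Q.asIdeal.under A)
  rw [Finset.sum_congr rfl fun q hq => (key q hq).2]
  have hmaps : ∀ Q ∈ hfinB.toFinset, (⟨Q.asIdeal.under A, inferInstance⟩ : PrimeSpectrum A) ∈ hfin.toFinset := fun Q hQ => by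
    obtain ⟨hnm, hm⟩ := hfinB.mem_toFinset.1 hQ
    refine hfin.mem_toFinset.2 ⟨fun hmax => hnm (Ideal.isMaximal_of_isIntegral_of_isMaximal_comap _ hmax), ?_⟩
    rw [← map_mul] at hm
    exact hm
  have hσ := Reduce.sigma_eq_zero_of_fac hB (Norm.ordFn A hB) haB hbB fun Q hQ => by
    exact (key _ (hmaps Q (hfinB.mem_toFinset.2 hQ))).1 Q (Finset.mem_filter.2 ⟨hfinB.mem_toFinset.2 hQ, rfl⟩)
  rw [Reduce.sigma_eq_sum hB (Norm.ordFn A hB) haB hbB hfinB.toFinset (by simp)
    (fun Q hQ => cset_good (mul_mem haB hbB) (hfinB.mem_toFinset.1 hQ))] at hσ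
  refine Eq.trans ?_ hσ
  rw [← Finset.sum_fiberwise_of_maps_to (g := fun Q : PrimeSpectrum B => (⟨Q.asIdeal.under A, inferInstance⟩ : PrimeSpectrum A)) hmaps
    (fun Q => term (Norm.ordFn A hB) (algebraMap A B a) (algebraMap A B b) Q)]
  refine Finset.sum_congr rfl fun q _ => Finset.sum_congr (Finset.filter_congr fun Q _ => ?_) fun _ _ => rfl
  exact ⟨fun h => PrimeSpectrum.ext h, fun h => congrArg PrimeSpectrum.asIdeal h⟩

end Groth.Agent.Lib.Tame.Key.Global
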