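import Groth.Agent.Lib.Tame.Key.Global
import Mathlib.RingTheory.TensorProduct.Maps

/-!
# Glueing local lattices at finitely many height-one primes
-/

set_option autoImplicit false

universe u

open IsLocalRing
open scoped TensorProduct

namespace Groth.Agent.Lib.Tame.Key.Glue

open Global Ident

/-- A finite extension killed by a power of a regular element sits inside `R[1/d]`. -/
theorem exists_embed {R B : Type u} [CommRing R] [CommRing B] [Algebra R B] {d : R} (hd : d ∈ nonZeroDivisors R)
    (hB : CycAlg.IsFinExt R B (Ideal.span {d})) (hreg : IsSMulRegular B d) :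
    ∃ ψ : B →ₐ[R] Lattice.L d, Function.Injective ψ := by
  obtain ⟨hinj, -, n, hn⟩ := hB
  choose α hα using fun x : B => hn (d ^ n) (Ideal.pow_mem_pow (Ideal.mem_span_singleton_self d) n) x
  obtain ⟨U, hU⟩ : IsUnit (algebraMap R (Lattice.L d) (d ^ n)) := by
    rw [map_pow]; exact (IsLocalization.Away.algebraMap_isUnit d).pow n
  set ι := algebraMap R (Lattice.L d)
  have hι : Function.Injective ι := IsLocalization.injective (Lattice.L d) (Submonoid.powers_le.2 hd)
  have h1 : ∀ r : R, α (algebraMap R B r) = r * d ^ n := fun r => hinj (by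
    rw [hα, Algebra.smul_def, map_mul, mul_comm])
  have hadd : ∀ x y, α (x + y) = α x + α y := fun x y => hinj (by rw [hα, map_add, hα, hα, smul_add])
  have hmul : ∀ x y, α x * α y = α (x * y) * d ^ n := fun x y => hinj (by
    rw [map_mul, map_mul, hα, hα, hα, Algebra.smul_def, Algebra.smul_def, Algebra.smul_def]
    ring)
  let f : B →+* Lattice.L d :=
    { toFun := fun x => ι (α x) * ↑U⁻¹
      map_one' := by rw [← map_one (algebraMap R B), h1, one_mul, ← hU, Units.mul_inv]
      map_mul' := fun x y => by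
        rw [show ι (α x) * ↑U⁻¹ * (ι (α y) * ↑U⁻¹) = ι (α x) * ι (α y) * ↑U⁻¹ * ↑U⁻¹ by ring,
          ← map_mul, hmul, map_mul, ← hU, mul_assoc (ι (α (x * y))), Units.mul_inv, mul_one]
      map_zero' := by rw [← map_zero (algebraMap R B), h1, zero_mul, map_zero, zero_mul]
      map_add' := fun x y => by rw [hadd, map_add, add_mul] }
  refine ⟨AlgHom.mk f fun r => ?_, fun x y e => ?_⟩
  · change ι (α (algebraMap R B r)) * ↑U⁻¹ = ι r
    rw [h1, map_mul, ← hU, mul_assoc, Units.mul_inv, mul_one]
  · change ι (α x) * ↑U⁻¹ = ι (α y) * ↑U⁻¹ at e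
    have e' : α x = α y := hι (U⁻¹.isUnit.mul_right_cancel e)
    refine hreg.pow n ?_
    change d ^ n • x = d ^ n • y
    rw [← hα, ← hα, e']

variable {A : Type u} [CommRing A] [IsNoetherianRing A] [IsLocalRing A]

theorem exists_glue (hA : ringKrullDim A ≤ 2) {t : A} (htnz : t ∈ nonZeroDivisors A) {r : ℕ} (q : Fin r → Ideal A)
    [∀ i, (q i).IsPrime] (hinj : Function.Injective q) (hqm : ∀ i, q i ≠ maximalIdeal A) (htq : ∀ i, t ∈ q i)
    (B : Fin r → Type u) [∀ i, CommRing (B i)] [∀ i, Algebra (Localization.AtPrime (q i)) (B i)]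
    (hB : ∀ i, CycAlg.IsFinExt (Localization.AtPrime (q i)) (B i)
      (Ideal.span {algebraMap A (Localization.AtPrime (q i)) t}))
    (htB : ∀ i, IsSMulRegular (B i) (algebraMap A (Localization.AtPrime (q i)) t)) :
    ∃ (C : Type u) (_ : CommRing C) (_ : Algebra A C), CycAlg.IsFinExt A C (Ideal.span {t}) ∧
      ∀ i, Nonempty (TensorProduct A (Localization.AtPrime (q i)) C ≃ₐ[Localization.AtPrime (q i)] B i) := by
  classical
  let Q (i : Fin r) : PrimeSpectrum A := ⟨q i, inferInstance⟩
  have hnm : ∀ i, ¬ (Q i).asIdeal.IsMaximal := fun i h => hqm i (eq_maximalIdeal h)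
  have hdim : ∀ i, Ring.KrullDimLE 1 (Localization.AtPrime (q i)) := fun i => krullDimLE_atPrime hA (Q i) (hnm i)
  have hinc : ∀ i j, i ≠ j → ¬ q j ≤ q i := fun i j hij hle => hij (hinj
    ((curve_of_good hA (cset_good htnz (Q := Q j) ⟨hnm j, htq j⟩)).eq_of_le hle (hnm i)).symm)
  have hreg : ∀ i, algebraMap A (Localization.AtPrime (q i)) t ∈ nonZeroDivisors (Localization.AtPrime (q i)) :=
    fun i => IsLocalization.map_nonZeroDivisors_le (q i).primeCompl _ ⟨t, htnz, rfl⟩
  choose ψ hψ using fun i => exists_embed (hreg i) (hB i) (htB i)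
  have hfin : ∀ i, ∃ G : Finset (B i), Submodule.span (Localization.AtPrime (q i)) (↑G : Set (B i)) = ⊤ :=
    fun i => (hB i).2.1.fg_top
  choose G hG using hfin
  have hgen : ∀ i, ∀ y ∈ G i, ∃ s ∉ q i, ∃ z : Lattice.L t, IsIntegral A z ∧ s • ψ i y = toLq t (q i) z ∧
      ∀ j, toLq t (q j) z ∈ (ψ j).range := by
    intro i y _
    have := (hB i).2.1
    obtain ⟨s, hs, z, hz, e⟩ := exists_integral_lift t (q i) (ψ i y) ((IsIntegral.of_finite _ y).map (ψ i))
    obtain ⟨n, w, hw⟩ := IsLocalization.Away.surj t z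
    let J (j : Fin r) : Ideal A := (Ideal.span {algebraMap A (Localization.AtPrime (q j)) t ^ n}).comap
      (algebraMap A (Localization.AtPrime (q j)))
    have hJ : ¬ ∏ j ∈ Finset.univ.erase i, J j ≤ q i := fun hle => by
      obtain ⟨j, hj, hle'⟩ := (Ideal.IsPrime.prod_le inferInstance).1 hle
      have := hdim j
      obtain ⟨N, hN⟩ := Extension.exists_pow_le_span (pow_mem (hreg j) n)
      have hQJ : q j ^ N ≤ J j := Ideal.map_le_iff_le_comap.1 (by
        rw [Ideal.map_pow, Localization.AtPrime.map_eq_maximalIdeal]; exact hN)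
      exact hinc i j (Finset.ne_of_mem_erase hj).symm (Ideal.IsPrime.le_of_pow_le (hQJ.trans hle'))
    obtain ⟨e', he', he'i⟩ := SetLike.not_le_iff_exists.1 hJ
    refine ⟨e' * s, (q i).primeCompl.mul_mem he'i hs, e' • z, hz.smul e', by rw [map_smul, ← e, mul_smul], fun j => ?_⟩
    rw [map_smul]
    by_cases hji : j = i
    · subst hji
      rw [← e, smul_smul, ← algebraMap_smul (Localization.AtPrime (q j))]
      exact Subalgebra.smul_mem _ ((ψ j).mem_range_self y) _
    · obtain ⟨c, hc⟩ := Ideal.mem_span_singleton'.1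
        (Ideal.mem_comap.1 ((Ideal.prod_le_inf.trans (Finset.inf_le (Finset.mem_erase.2 ⟨hji, Finset.mem_univ j⟩))) he'))
      rw [show e' • toLq t (q j) z = algebraMap (Localization.AtPrime (q j)) (Lq t (q j))
          (c * algebraMap A _ w) by
        rw [map_mul, ← IsScalarTower.algebraMap_apply A, ← AlgHom.commutes (toLq t (q j)) w, ← hw, map_mul, map_pow,
          Algebra.smul_def, IsScalarTower.algebraMap_apply A (Localization.AtPrime (q j)) (Lq t (q j)) e', ← hc,
          map_mul, map_pow, AlgHom.commutes, ← IsScalarTower.algebraMap_apply]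
        ring]
      exact Subalgebra.algebraMap_mem _ _
  choose! s hs z hz hsz hzj using hgen
  let S : Finset (Lattice.L t) := Finset.univ.biUnion fun i => (G i).image (z i)
  have hS : ∀ w ∈ (↑S : Set (Lattice.L t)), IsIntegral A w := fun w hw => by
    obtain ⟨i, -, hi⟩ := Finset.mem_biUnion.1 hw
    obtain ⟨y, hy, rfl⟩ := Finset.mem_image.1 hi
    exact hz i y hy
  let C := Algebra.adjoin A (↑S : Set (Lattice.L t))
  have hfg : (Algebra.adjoin A (↑S : Set (Lattice.L t))).toSubmodule.FG := fg_adjoin_of_finite S.finite_toSet hS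
  refine ⟨C, inferInstance, inferInstance, ⟨fun x y e => IsLocalization.injective (Lattice.L t)
    (Submonoid.powers_le.2 htnz) (congrArg Subtype.val e), Module.Finite.iff_fg.2 hfg, ?_⟩, fun i => ?_⟩
  · obtain ⟨T, hT⟩ := hfg
    choose m a hma using fun w : Lattice.L t => IsLocalization.Away.surj t w
    refine ⟨T.sup m, fun x hx b => ?_⟩
    rw [Ideal.span_singleton_pow, Ideal.mem_span_singleton'] at hx
    obtain ⟨x, rfl⟩ := hx
    suffices h : ∀ w ∈ Submodule.span A (↑T : Set (Lattice.L t)),
        t ^ T.sup m • w ∈ LinearMap.range (Algebra.linearMap A (Lattice.L t)) by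
      obtain ⟨v, hv⟩ := h b.1 (hT ▸ b.2)
      exact ⟨x * v, Subtype.ext (by
        change algebraMap A (Lattice.L t) (x * v) = (x * t ^ T.sup m) • (b : Lattice.L t)
        rw [mul_smul, ← hv, Algebra.linearMap_apply, map_mul, Algebra.smul_def])⟩
    intro w hw
    induction hw using Submodule.span_induction with
    | mem w hw =>
      obtain ⟨k, hk⟩ := Nat.exists_eq_add_of_le (Finset.le_sup (f := m) hw)
      refine ⟨t ^ k * a w, ?_⟩
      rw [Algebra.linearMap_apply, map_mul, ← hma, hk, pow_add, Algebra.smul_def, map_mul, map_pow, map_pow]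
      ring
    | zero => simp
    | add _ _ _ _ h h' => rw [smul_add]; exact add_mem h h'
    | smul c w _ h => rw [smul_comm]; exact Submodule.smul_mem _ c h
  · let R := Localization.AtPrime (q i)
    let g₁ : C →ₐ[A] Lq t (q i) := (toLq t (q i)).comp C.val
    let Φ : R ⊗[A] C →ₐ[R] Lq t (q i) :=
      Algebra.TensorProduct.lift (Algebra.ofId R (Lq t (q i))) g₁ fun _ _ => Commute.all _ _
    have hΦ : ∀ (x : R) (c : C), Φ (x ⊗ₜ c) = x • toLq t (q i) (c : Lattice.L t) := fun x c => by
      rw [Algebra.TensorProduct.lift_tmul, Algebra.smul_def]; rfl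
    have hform : ∀ x : R ⊗[A] C, ∃ (w : C) (d : (q i).primeCompl), x = IsLocalization.mk' R 1 d ⊗ₜ w := fun x => by
      induction x using TensorProduct.induction_on with
      | zero => exact ⟨0, 1, (TensorProduct.tmul_zero _ _).symm⟩
      | tmul x w =>
        obtain ⟨a, d, rfl⟩ := IsLocalization.exists_mk'_eq (q i).primeCompl x
        refine ⟨a • w, d, ?_⟩
        rw [← TensorProduct.smul_tmul, IsLocalization.smul_mk'_one]
      | add x y hx hy =>
        obtain ⟨w, d, rfl⟩ := hx
        obtain ⟨w', d', rfl⟩ := hy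
        refine ⟨(d' : A) • w + (d : A) • w', d * d', ?_⟩
        rw [TensorProduct.tmul_add, ← TensorProduct.smul_tmul, ← TensorProduct.smul_tmul]
        have key : ∀ a b : (q i).primeCompl, (b : A) • IsLocalization.mk' R (1 : A) (a * b) = IsLocalization.mk' R 1 a :=
          fun a b => by
            rw [IsLocalization.smul_mk'_one]
            exact IsLocalization.mk'_eq_of_eq (by rw [Submonoid.coe_mul]; ring)
        rw [key d d', mul_comm d d', key d' d]
    have hΦi : Function.Injective Φ := by
      rw [injective_iff_map_eq_zero]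
      intro x hx
      obtain ⟨w, d, rfl⟩ := hform x
      rw [hΦ] at hx
      have hu : IsUnit (IsLocalization.mk' R (1 : A) d) :=
        IsUnit.of_mul_eq_one _ (IsLocalization.mk'_spec R (1 : A) d |>.trans (map_one _))
      obtain ⟨e, he, he0⟩ := toLq_ker t (q i) (hu.smul_eq_zero.1 hx)
      have hw : e • w = 0 := Subtype.ext he0
      obtain ⟨v, hv⟩ := IsLocalization.map_units R (⟨e, he⟩ : (q i).primeCompl)
      rw [show IsLocalization.mk' R (1 : A) d = e • (IsLocalization.mk' R (1 : A) d * ↑v⁻¹) by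
        rw [Algebra.smul_def, ← hv, mul_left_comm, Units.mul_inv, mul_one], TensorProduct.smul_tmul, hw,
        TensorProduct.tmul_zero]
    have hrange : Φ.range = (ψ i).range := by
      refine le_antisymm ?_ ?_
      · rintro _ ⟨x, rfl⟩
        obtain ⟨w, d, rfl⟩ := hform x
        change Φ _ ∈ _
        rw [hΦ]
        refine Subalgebra.smul_mem _ ?_ _
        have : C ≤ ((ψ i).range.restrictScalars A).comap (toLq t (q i)) := Algebra.adjoin_le fun v hv => by
          obtain ⟨j, -, hj⟩ := Finset.mem_biUnion.1 hv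
          obtain ⟨y, hy, rfl⟩ := Finset.mem_image.1 hj
          exact hzj j y hy i
        exact this w.2
      · rintro _ ⟨y, rfl⟩
        have hy : y ∈ Submodule.span R (↑(G i) : Set (B i)) := hG i ▸ trivial
        change ψ i y ∈ _
        induction hy using Submodule.span_induction with
        | mem y hy =>
          obtain ⟨v, hv⟩ := IsLocalization.map_units R (⟨s i y, hs i y hy⟩ : (q i).primeCompl)
          refine ⟨(↑v⁻¹ : R) ⊗ₜ ⟨z i y, Algebra.subset_adjoin (Finset.mem_biUnion.2
            ⟨i, Finset.mem_univ i, Finset.mem_image_of_mem _ hy⟩)⟩, ?_⟩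
          change Φ _ = _
          rw [hΦ, ← hsz i y hy, ← algebraMap_smul R (s i y) (ψ i y), smul_smul, ← hv, Units.inv_mul, one_smul]
        | zero => rw [map_zero]; exact zero_mem _
        | add x y _ _ hx hy => rw [map_add]; exact add_mem hx hy
        | smul c x _ hx => rw [map_smul]; exact Subalgebra.smul_mem _ hx c
    exact ⟨(AlgEquiv.ofInjective Φ hΦi).trans ((Subalgebra.equivOfEq _ _ hrange).trans (AlgEquiv.ofInjective (ψ i) (hψ i)).symm)⟩

end Groth.Agent.Lib.Tame.Key.Glue
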