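import Groth.Agent.Lib.Tame.Key.Mult
import Groth.Agent.Lib.Tame.Laws
import Mathlib.RingTheory.KrullDimension.NonZeroDivisors
import Mathlib.RingTheory.Ideal.Height
import Mathlib.Algebra.BigOperators.Finprod

/-!
# The key identity for two elements which are locally equal or coprime
-/

set_option autoImplicit false

universe u

open IsLocalRing

namespace Groth.Agent.Lib.Tame.Key.Ident

open Chi Mult LocLen Value Laws

variable {B : Type u} [CommRing B]

/-- A non-maximal prime containing a regular element. -/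
def Good (Q : PrimeSpectrum B) : Prop := ¬ Q.asIdeal.IsMaximal ∧ ∃ a ∈ nonZeroDivisors B, a ∈ Q.asIdeal

/-- The non-maximal primes containing `a`. -/
def cset (a : B) : Set (PrimeSpectrum B) := {Q | ¬ Q.asIdeal.IsMaximal ∧ a ∈ Q.asIdeal}

theorem curve_of_good (hB : ringKrullDim B ≤ 2) {Q : PrimeSpectrum B} (hQ : Good Q) : Curve Q.asIdeal := by
  refine ⟨hQ.1, fun p' hp' hlt => ?_⟩
  by_contra hne
  obtain ⟨n, hn, hle⟩ := Ideal.exists_le_maximal p' hp'.ne_top
  obtain ⟨a, ha, haQ⟩ := hQ.2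
  obtain ⟨P, hP, hPle⟩ := Ideal.exists_minimalPrimes_le (bot_le : (⊥ : Ideal B) ≤ Q.asIdeal)
  have hPp : P.IsPrime := hP.1.1
  have h1 : (⟨P, hPp⟩ : PrimeSpectrum B) < Q :=
    lt_of_le_of_ne hPle fun e => Set.disjoint_left.1 (Ideal.disjoint_nonZeroDivisors_of_mem_minimalPrimes hP)
      (e ▸ haQ : a ∈ (⟨P, hPp⟩ : PrimeSpectrum B).asIdeal) ha
  have h3 : (⟨p', hp'⟩ : PrimeSpectrum B) < ⟨n, hn.isPrime⟩ :=
    lt_of_le_of_ne hle fun e => hne (by rw [show p' = n from congrArg PrimeSpectrum.asIdeal e]; exact hn)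
  let s : LTSeries (PrimeSpectrum B) :=
    (((RelSeries.singleton _ (⟨P, hPp⟩ : PrimeSpectrum B)).snoc Q h1).snoc ⟨p', hp'⟩
      (by erw [RelSeries.last_snoc]; exact hlt)).snoc ⟨n, hn.isPrime⟩ (by erw [RelSeries.last_snoc]; exact h3)
  have := (Order.LTSeries.length_le_krullDim s).trans hB
  rw [show s.length = 3 from rfl] at this
  norm_cast at this

theorem krullDimLE_atPrime (hB : ringKrullDim B ≤ 2) (Q : PrimeSpectrum B) (hQ : ¬ Q.asIdeal.IsMaximal) :
    Ring.KrullDimLE 1 (Localization.AtPrime Q.asIdeal) := by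
  obtain ⟨n, hn, hle⟩ := Ideal.exists_le_maximal Q.asIdeal Q.2.ne_top
  rw [Ring.krullDimLE_iff, IsLocalization.AtPrime.ringKrullDim_eq_height Q.asIdeal]
  have hlt : Q.asIdeal < n := lt_of_le_of_ne hle fun e => hQ (e ▸ hn)
  have h2 : (Q.asIdeal.height : WithBot ℕ∞) + 1 ≤ 2 := by
    refine le_trans ?_ ((Ideal.height_le_ringKrullDim_of_ne_top hn.ne_top).trans hB)
    have := WithBot.coe_le_coe.2 (Ideal.height_add_one_le_of_lt_of_isPrime hlt)
    simpa using this
  have h3 : Q.asIdeal.height + 1 ≤ 1 + 1 := WithBot.coe_le_coe.1 (by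
    simpa [one_add_one_eq_two] using h2)
  exact WithBot.coe_le_coe.2 (((ENat.add_le_add_iff_right (by simp)).1 h3).trans (by simp))

theorem cset_good {a : B} (ha : a ∈ nonZeroDivisors B) {Q : PrimeSpectrum B} (hQ : Q ∈ cset a) : Good Q :=
  ⟨hQ.1, a, ha, hQ.2⟩

theorem finite_cset [IsNoetherianRing B] (hB : ringKrullDim B ≤ 2) {a : B} (ha : a ∈ nonZeroDivisors B) :
    (cset a).Finite := by
  refine Set.Finite.of_finite_image (f := PrimeSpectrum.asIdeal)
    ((Ideal.span {a}).finite_minimalPrimes_of_isNoetherianRing.subset ?_) fun p _ q _ h => PrimeSpectrum.ext h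
  rintro _ ⟨Q, hQ, rfl⟩
  refine ⟨⟨Q.2, (Ideal.span_singleton_le_iff_mem _).2 hQ.2⟩, fun p hp hle => ?_⟩
  by_contra hne
  have hlt : p < Q.asIdeal := lt_of_le_not_ge hle hne
  have hgood : Good (⟨p, hp.1⟩ : PrimeSpectrum B) :=
    ⟨fun hm => hne ((Ideal.IsMaximal.eq_of_le hm Q.2.ne_top hle).ge), a, ha, hp.2 (Ideal.mem_span_singleton_self a)⟩
  exact hQ.1 ((curve_of_good hB hgood).2 Q.asIdeal Q.2 hlt)

/-- `(a : b)`. -/
def num (a b : B) : Ideal B := Submodule.comap (LinearMap.mulLeft B b) (Ideal.span {a})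

theorem mem_num {a b u : B} : u ∈ num a b ↔ b * u ∈ Ideal.span {a} := Iff.rfl

theorem self_mem_num (a b : B) : a ∈ num a b := Ideal.mul_mem_left _ _ (Ideal.mem_span_singleton_self a)

/-- `(a : b) / (a)`. -/
abbrev H (a b : B) : Type u := ↥(num a b) ⧸ (Ideal.span {a}).submoduleOf (num a b)

/-- `(a : b) / (a) → B / (a, b)`. -/
def inc (a b : B) (J : Ideal B) (hJ : Ideal.span {a} ≤ J) : H a b →ₗ[B] B ⧸ J :=
  Submodule.mapQ _ _ (num a b).subtype fun _ hu => hJ hu

theorem existsUnique_tr {a b : B} (ha : a ∈ nonZeroDivisors B) (u : num a b) : ∃! z, b * (u : B) = a * z := by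
  obtain ⟨z, hz⟩ := Ideal.mem_span_singleton'.1 (mem_num.1 u.2)
  exact ⟨z, by rw [← hz, mul_comm], fun y hy => (mul_cancel_left_mem_nonZeroDivisors ha).1
    (by rw [← hy, ← hz, mul_comm])⟩

/-- `u ↦ b u / a`. -/
noncomputable def tr {a b : B} (ha : a ∈ nonZeroDivisors B) : num a b →ₗ[B] num b a where
  toFun u := ⟨(existsUnique_tr ha u).choose, mem_num.2 (by
    rw [← (existsUnique_tr ha u).choose_spec.1]
    exact Ideal.mul_mem_right _ _ (Ideal.mem_span_singleton_self b))⟩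
  map_add' u v := Subtype.ext ((mul_cancel_left_mem_nonZeroDivisors ha).1 (by
    have h1 : _ = _ := (existsUnique_tr ha (u + v)).choose_spec.1
    have h2 : _ = _ := (existsUnique_tr ha u).choose_spec.1
    have h3 : _ = _ := (existsUnique_tr ha v).choose_spec.1
    simp only [Submodule.coe_add] at h1 ⊢
    linear_combination -h1 + h2 + h3))
  map_smul' r u := Subtype.ext ((mul_cancel_left_mem_nonZeroDivisors ha).1 (by
    have h1 : _ = _ := (existsUnique_tr ha (r • u)).choose_spec.1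
    have h2 : _ = _ := (existsUnique_tr ha u).choose_spec.1
    simp only [Submodule.coe_smul, smul_eq_mul, RingHom.id_apply] at h1 ⊢
    linear_combination -h1 + r * h2))

theorem tr_spec {a b : B} (ha : a ∈ nonZeroDivisors B) (u : num a b) : b * (u : B) = a * (tr ha u : B) :=
  (existsUnique_tr ha u).choose_spec.1

/-- The exchange map. -/
noncomputable def ex {a b : B} (ha : a ∈ nonZeroDivisors B) : H a b →ₗ[B] H b a :=
  Submodule.mapQ _ _ (tr ha) fun u hu => by
    obtain ⟨w, hw⟩ := Ideal.mem_span_singleton'.1 (hu : (u : B) ∈ Ideal.span {a})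
    refine Ideal.mem_span_singleton'.2 ⟨w, (mul_cancel_left_mem_nonZeroDivisors ha).1 ?_⟩
    change a * (w * b) = a * (tr ha u : B)
    simp only [Submodule.coe_subtype] at hw
    linear_combination b * hw + tr_spec ha u

theorem ex_ex {a b : B} (ha : a ∈ nonZeroDivisors B) (hb : b ∈ nonZeroDivisors B) (y : H a b) :
    ex hb (ex ha y) = y := by
  obtain ⟨u, rfl⟩ := Submodule.Quotient.mk_surjective _ y
  refine congrArg Submodule.Quotient.mk (Subtype.ext ((mul_cancel_left_mem_nonZeroDivisors hb).1 ?_))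
  rw [← tr_spec hb, tr_spec ha]

/-- The exchange isomorphism. -/
noncomputable def exEquiv {a b : B} (ha : a ∈ nonZeroDivisors B) (hb : b ∈ nonZeroDivisors B) : H a b ≃ₗ[B] H b a :=
  LinearEquiv.ofLinearMap (ex ha) (ex hb) (LinearMap.ext (ex_ex hb ha)) (LinearMap.ext (ex_ex ha hb))

variable {A : Type u} [CommRing A] [IsLocalRing A] [IsNoetherianRing A] [Algebra A B] [Module.Finite A B]

omit [IsNoetherianRing A] [Module.Finite A B] [IsLocalRing A] [Algebra A B] in
theorem exists_kill {a b : B} {Q : PrimeSpectrum B} (h : ∃ w : (Localization.AtPrime Q.asIdeal)ˣ,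
    algebraMap B (Localization.AtPrime Q.asIdeal) b = w * algebraMap B _ a) :
    ∃ s, s ∉ Q.asIdeal ∧ s ∈ num a b := by
  obtain ⟨w, hw⟩ := h
  obtain ⟨r, t, ht⟩ := IsLocalization.exists_mk'_eq Q.asIdeal.primeCompl (w : Localization.AtPrime Q.asIdeal)
  rw [← ht, mul_comm, IsLocalization.mul_mk'_eq_mk'_of_mul, IsLocalization.eq_mk'_iff_mul_eq, ← map_mul,
    IsLocalization.eq_iff_exists Q.asIdeal.primeCompl] at hw
  obtain ⟨c, hc⟩ := hw
  refine ⟨c * t, Q.asIdeal.primeCompl.mul_mem c.2 t.2, mem_num.2 (Ideal.mem_span_singleton'.2 ⟨c * r, ?_⟩)⟩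
  linear_combination -hc

/-- Common primes are handled by `inc`: the facts needed about `inc a b`. -/
theorem inc_data [DecidableEq (PrimeSpectrum B)] (hB : ringKrullDim B ≤ 2) {a b : B} (ha : a ∈ nonZeroDivisors B)
    (hb : b ∈ nonZeroDivisors B)
    (hk : ∀ Q ∈ cset a ∩ cset b, ∃ s, s ∉ Q.asIdeal ∧ s ∈ num a b)
    (hk' : ∀ Q ∈ cset a ∩ cset b, ∃ s, s ∉ Q.asIdeal ∧ s ∈ num b a)
    (E : Finset (PrimeSpectrum B)) (hE : ∀ Q, Q ∈ E ↔ Q ∈ cset a ∧ b ∉ Q.asIdeal)
    (J : Ideal B) (hJ : J = Ideal.span {a} ⊔ Ideal.span {b}) :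
    ∀ hle, Fin2 ((inc a b J hle).restrictScalars A) ∧
      chi ((inc a b J hle).restrictScalars A) = ∑ Q ∈ E,
        ((Ring.ord (Localization.AtPrime Q.asIdeal) (algebraMap B _ a)).toNat : ℤ) * (ordA A Q.asIdeal b : ℤ) := by
  intro hle
  have : IsNoetherianRing B := isNoetherian_of_tower A inferInstance
  subst hJ
  let I := num a b
  have hEb : ∀ Q ∈ E, b ∉ Q.asIdeal := fun Q hQ => ((hE Q).1 hQ).2
  have hoff : Off E (B ⧸ I) := by
    intro Q hQm hQE m
    obtain ⟨s, hs, hsI⟩ : ∃ s, s ∉ Q.asIdeal ∧ s ∈ I := by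
      by_cases haQ : a ∈ Q.asIdeal
      · have hbQ : b ∈ Q.asIdeal := by
          by_contra hbQ
          exact hQE ((hE Q).2 ⟨⟨hQm, haQ⟩, hbQ⟩)
        exact hk Q ⟨⟨hQm, haQ⟩, hQm, hbQ⟩
      · exact ⟨a, haQ, self_mem_num a b⟩
    obtain ⟨m, rfl⟩ := Ideal.Quotient.mk_surjective m
    exact ⟨s, hs, Ideal.Quotient.eq_zero_iff_mem.2 (I.mul_mem_right m hsI)⟩
  obtain ⟨-, hfx, hcx⟩ := chi_mulMap (A := A) E (fun Q hQ => curve_of_good hB (cset_good ha ((hE Q).1 hQ).1))
    (x := b) hEb hoff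
  -- cokernels
  let π : (B ⧸ I) →ₗ[B] (B ⧸ (Ideal.span {a} ⊔ Ideal.span {b})) ⧸ LinearMap.range (inc a b _ hle) :=
    Submodule.mapQ _ _ (Submodule.mkQ _) fun u hu => ⟨Submodule.Quotient.mk ⟨u, hu⟩, rfl⟩
  have hπs : Function.Surjective π := fun z => by
    obtain ⟨z, rfl⟩ := Submodule.Quotient.mk_surjective _ z
    obtain ⟨z, rfl⟩ := Submodule.Quotient.mk_surjective _ z
    exact ⟨Submodule.Quotient.mk z, rfl⟩
  have hπk : LinearMap.ker (π.restrictScalars A) = LinearMap.range (mulMap A (B ⧸ I) b) := by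
    ext z
    obtain ⟨z, rfl⟩ := Submodule.Quotient.mk_surjective _ z
    change Submodule.Quotient.mk (Submodule.Quotient.mk z) = 0 ↔ _
    rw [Submodule.Quotient.mk_eq_zero]
    constructor
    · rintro ⟨y, hy⟩
      obtain ⟨u, rfl⟩ := Submodule.Quotient.mk_surjective _ y
      have hy' : (u : B) - z ∈ Ideal.span {a} ⊔ Ideal.span {b} := (Submodule.Quotient.eq _).1 hy
      obtain ⟨α, hα, β, hβ, hαβ⟩ := Submodule.mem_sup.1 hy'
      obtain ⟨β, rfl⟩ := Ideal.mem_span_singleton'.1 hβ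
      refine ⟨Submodule.Quotient.mk (-β), (Submodule.Quotient.eq _).2 ?_⟩
      have : b * (-β) - z = α - (u : B) := by linear_combination -hαβ
      change b * (-β) - z ∈ I
      rw [this]
      exact sub_mem (by
        obtain ⟨α, rfl⟩ := Ideal.mem_span_singleton'.1 hα
        exact Ideal.mul_mem_left _ _ (self_mem_num a b)) u.2
    · rintro ⟨y, hy⟩
      obtain ⟨y, rfl⟩ := Submodule.Quotient.mk_surjective _ y
      have hy' : b * y - z ∈ I := (Submodule.Quotient.eq _).1 hy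
      refine ⟨Submodule.Quotient.mk (-⟨_, hy'⟩), (Submodule.Quotient.eq _).2 ?_⟩
      change -(b * y - z) - z ∈ _
      rw [show -(b * y - z) - z = (-y) * b by ring]
      exact Ideal.mem_sup_right (Ideal.mul_mem_left _ _ (Ideal.mem_span_singleton_self b))
  have hcok : Module.length A ((B ⧸ (Ideal.span {a} ⊔ Ideal.span {b})) ⧸
      LinearMap.range ((inc a b _ hle).restrictScalars A)) =
      Module.length A ((B ⧸ I) ⧸ LinearMap.range (mulMap A (B ⧸ I) b)) := by
    have e1 : ((B ⧸ I) ⧸ LinearMap.range (mulMap A (B ⧸ I) b)) ≃ₗ[A]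
        ((B ⧸ (Ideal.span {a} ⊔ Ideal.span {b})) ⧸ LinearMap.range (inc a b _ hle)) :=
      (Submodule.quotEquivOfEq _ _ hπk.symm).trans ((π.restrictScalars A).quotKerEquivOfSurjective hπs)
    rw [e1.length_eq]
    exact (Submodule.Quotient.restrictScalarsEquiv A (LinearMap.range (inc a b _ hle))).length_eq
  -- kernels
  let K₀ : Ideal B := Submodule.comap (LinearMap.mulLeft B b) I
  let ν₁ : K₀ →ₗ[A] LinearMap.ker (mulMap A (B ⧸ I) b) :=
    (((Submodule.mkQ I).restrictScalars A) ∘ₗ (K₀.subtype.restrictScalars A)).codRestrict _ fun z =>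
      (Submodule.Quotient.mk_eq_zero I).2 z.2
  let β : K₀ →ₗ[B] I := ((LinearMap.mulLeft B b).restrict fun z hz => hz)
  let ν₂ : K₀ →ₗ[A] LinearMap.ker ((inc a b _ hle).restrictScalars A) :=
    ((((Ideal.span {a}).submoduleOf I).mkQ ∘ₗ β).restrictScalars A).codRestrict _ fun z =>
      (Submodule.Quotient.mk_eq_zero _).2 (Ideal.mem_sup_right (Ideal.mul_mem_right _ _ (Ideal.mem_span_singleton_self b)))
  have h₁ : Function.Surjective ν₁ := by
    rintro ⟨y, hy⟩
    obtain ⟨z, rfl⟩ := Submodule.Quotient.mk_surjective _ y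
    exact ⟨⟨z, (Submodule.Quotient.mk_eq_zero I).1 hy⟩, rfl⟩
  have h₂ : Function.Surjective ν₂ := by
    rintro ⟨y, hy⟩
    obtain ⟨u, rfl⟩ := Submodule.Quotient.mk_surjective _ y
    obtain ⟨α, hα, β', hβ', hαβ⟩ := Submodule.mem_sup.1 ((Submodule.Quotient.mk_eq_zero _).1 hy :
      (u : B) ∈ Ideal.span {a} ⊔ Ideal.span {b})
    obtain ⟨γ, rfl⟩ := Ideal.mem_span_singleton'.1 hβ'
    have hγ : b * γ ∈ I := by
      rw [show b * γ = (u : B) - α by linear_combination hαβ]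
      exact sub_mem u.2 (by
        obtain ⟨α, rfl⟩ := Ideal.mem_span_singleton'.1 hα
        exact Ideal.mul_mem_left _ _ (self_mem_num a b))
    refine ⟨⟨γ, hγ⟩, Subtype.ext ((Submodule.Quotient.eq _).2 ?_)⟩
    change b * γ - (u : B) ∈ Ideal.span {a}
    rw [show b * γ - (u : B) = -α by linear_combination hαβ]
    exact neg_mem hα
  have hker : Module.length A (LinearMap.ker ((inc a b _ hle).restrictScalars A)) =
      Module.length A (LinearMap.ker (mulMap A (B ⧸ I) b)) := by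
    refine ((ν₂.quotKerEquivOfSurjective h₂).symm.trans ((Submodule.quotEquivOfEq _ _ ?_).trans
      (ν₁.quotKerEquivOfSurjective h₁))).length_eq
    ext z
    simp only [LinearMap.mem_ker, ν₁, ν₂, Subtype.ext_iff,
      ZeroMemClass.coe_zero]
    exact ((Submodule.Quotient.mk_eq_zero _).trans mem_num.symm).trans (Submodule.Quotient.mk_eq_zero _).symm
  refine ⟨⟨hcok.trans_lt hfx.1, hker.trans_lt hfx.2⟩, ?_⟩
  rw [show chi ((inc a b _ hle).restrictScalars A) = chi (mulMap A (B ⧸ I) b) by rw [chi, chi, hcok, hker], hcx]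
  refine Finset.sum_congr rfl fun Q hQ => ?_
  congr 3
  rw [← locLen_quotient_span Q.asIdeal a]
  -- `I = (a)` at `Q`
  let p : (B ⧸ Ideal.span {a}) →ₗ[B] B ⧸ I :=
    Submodule.factor ((Ideal.span_singleton_le_iff_mem _).2 (self_mem_num a b))
  let i : H a b →ₗ[B] B ⧸ Ideal.span {a} := inc a b _ le_rfl
  have hi : Function.Injective i := by
    rw [injective_iff_map_eq_zero]
    intro y hy
    obtain ⟨u, rfl⟩ := Submodule.Quotient.mk_surjective _ y
    exact (Submodule.Quotient.mk_eq_zero _).2 ((Submodule.Quotient.mk_eq_zero (Ideal.span {a})).1 hy :)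
  have hex : Function.Exact i p := fun z => by
    obtain ⟨z, rfl⟩ := Submodule.Quotient.mk_surjective _ z
    constructor
    · intro h
      exact ⟨Submodule.Quotient.mk ⟨z, (Submodule.Quotient.mk_eq_zero I).1 h⟩, rfl⟩
    · rintro ⟨y, hy⟩
      obtain ⟨u, rfl⟩ := Submodule.Quotient.mk_surjective _ y
      rw [← hy]
      exact (Submodule.Quotient.mk_eq_zero I).2 u.2
  rw [locLen_add Q.asIdeal hi (Submodule.factor_surjective _) hex,
    locLen_eq_zero_of_smul Q.asIdeal (hEb Q hQ) (M := H a b) fun y => ?_, zero_add]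
  obtain ⟨u, rfl⟩ := Submodule.Quotient.mk_surjective _ y
  exact (Submodule.Quotient.mk_eq_zero _).2 (mem_num.1 u.2)

/-- An order function on the residue fields of the curves of `B`. -/
structure OrdFn (A : Type u) [CommRing A] (B : Type u) [CommRing B] [Algebra A B] where
  /-- the value -/
  ω : ∀ Q : PrimeSpectrum B, ResidueField (Localization.AtPrime Q.asIdeal) → ℤ
  mul : ∀ Q, Good Q → ∀ x y, x ≠ 0 → y ≠ 0 → ω Q (x * y) = ω Q x + ω Q y
  apply_mk : ∀ Q, Good Q → ∀ s, s ∉ Q.asIdeal →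
    ω Q (residue _ (algebraMap B (Localization.AtPrime Q.asIdeal) s)) = (ordA A Q.asIdeal s : ℤ)

namespace OrdFn

variable (W : OrdFn A B) {Q : PrimeSpectrum B} (hQ : Good Q)
include hQ

omit [IsLocalRing A] [IsNoetherianRing A] [Module.Finite A B] in
theorem one : W.ω Q 1 = 0 := by
  have := W.mul Q hQ 1 1 one_ne_zero one_ne_zero
  rw [one_mul] at this; omega

omit [IsLocalRing A] [IsNoetherianRing A] [Module.Finite A B] in
theorem neg_one : W.ω Q (-1) = 0 := by
  have := W.mul Q hQ (-1) (-1) (neg_ne_zero.2 one_ne_zero) (neg_ne_zero.2 one_ne_zero)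
  rw [neg_one_mul, neg_neg, W.one hQ] at this; omega

omit [IsLocalRing A] [IsNoetherianRing A] [Module.Finite A B] in
theorem pow {x} (hx : x ≠ 0) (n : ℕ) : W.ω Q (x ^ n) = n * W.ω Q x := by
  induction n with
  | zero => simpa using W.one hQ
  | succ n ih => rw [pow_succ, W.mul Q hQ _ _ (pow_ne_zero n hx) hx, ih]; push_cast; ring

omit [IsLocalRing A] [IsNoetherianRing A] [Module.Finite A B] in
theorem inv {x} (hx : x ≠ 0) : W.ω Q x⁻¹ = - W.ω Q x := by
  have := W.mul Q hQ x x⁻¹ hx (inv_ne_zero hx)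
  rw [mul_inv_cancel₀ hx, W.one hQ] at this; omega

end OrdFn

/-- The term of the key sum at `Q`. -/
noncomputable def term (W : OrdFn A B) (a b : B) (Q : PrimeSpectrum B) : ℤ :=
  W.ω Q (CycAlg.tameSymbol (Localization.AtPrime Q.asIdeal) (algebraMap B _ a) (algebraMap B _ b))

/-- The key sum. -/
noncomputable def sigma (W : OrdFn A B) (a b : B) : ℤ :=
  ∑ᶠ (Q : PrimeSpectrum B) (_ : Q ∈ cset (a * b)), term W a b Q

/-- The key identity for pairs which are locally equal or coprime. -/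
theorem sigma_eq_zero (hB : ringKrullDim B ≤ 2) (W : OrdFn A B) {a b : B} (ha : a ∈ nonZeroDivisors B)
    (hb : b ∈ nonZeroDivisors B)
    (heq : ∀ Q ∈ cset a ∩ cset b, ∃ w : (Localization.AtPrime Q.asIdeal)ˣ,
      algebraMap B (Localization.AtPrime Q.asIdeal) a = w * algebraMap B _ b) :
    sigma W a b = 0 := by
  classical
  have : IsNoetherianRing B := isNoetherian_of_tower A inferInstance
  let R (Q : PrimeSpectrum B) := Localization.AtPrime Q.asIdeal
  have hreg : ∀ (Q : PrimeSpectrum B) (c : B), c ∈ nonZeroDivisors B → algebraMap B (R Q) c ∈ nonZeroDivisors (R Q) :=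
    fun Q c hc => IsLocalization.map_nonZeroDivisors_le Q.asIdeal.primeCompl (R Q) ⟨c, hc, rfl⟩
  have hfa := finite_cset hB ha
  have hfb := finite_cset hB hb
  let Sb := (hfa.inter_of_left (cset b)).toFinset
  let E := hfa.toFinset.filter fun Q => b ∉ Q.asIdeal
  let E' := hfb.toFinset.filter fun Q => a ∉ Q.asIdeal
  have hE : ∀ Q, Q ∈ E ↔ Q ∈ cset a ∧ b ∉ Q.asIdeal := fun Q => by simp [E]
  have hE' : ∀ Q, Q ∈ E' ↔ Q ∈ cset b ∧ a ∉ Q.asIdeal := fun Q => by simp [E']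
  have hSb : ∀ Q, Q ∈ Sb ↔ Q ∈ cset a ∧ Q ∈ cset b := fun Q => by simp [Sb]
  have hk : ∀ Q ∈ cset a ∩ cset b, ∃ s, s ∉ Q.asIdeal ∧ s ∈ num a b := fun Q hQ => by
    obtain ⟨w, hw⟩ := heq Q hQ
    exact exists_kill ⟨w⁻¹, by rw [hw, Units.inv_mul_cancel_left]⟩
  have hk' : ∀ Q ∈ cset a ∩ cset b, ∃ s, s ∉ Q.asIdeal ∧ s ∈ num b a := fun Q hQ => exists_kill (heq Q hQ)
  set J := Ideal.span {a} ⊔ Ideal.span {b} with hJ
  have hle : Ideal.span {a} ≤ J := le_sup_left
  have hle' : Ideal.span {b} ≤ J := le_sup_right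
  obtain ⟨hi, hci⟩ := inc_data (A := A) hB ha hb hk hk' E hE J hJ hle
  obtain ⟨hi', hci'⟩ := inc_data (A := A) hB hb ha (fun Q hQ => hk' Q ⟨hQ.2, hQ.1⟩) (fun Q hQ => hk Q ⟨hQ.2, hQ.1⟩)
    E' hE' J (hJ.trans (sup_comm _ _)) hle'
  -- an auxiliary element avoiding the common primes
  obtain ⟨x, hxI, hx⟩ : ∃ x ∈ num a b, ∀ Q ∈ Sb, x ∉ Q.asIdeal := by
    by_contra hno
    push Not at hno
    have hsub : ((num a b : Ideal B) : Set B) ⊆ ⋃ Q ∈ (↑Sb : Set (PrimeSpectrum B)), Q.asIdeal := fun y hy => by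
      obtain ⟨Q, hQ, hyQ⟩ := hno y hy
      exact Set.mem_iUnion₂.2 ⟨Q, hQ, hyQ⟩
    rcases Sb.eq_empty_or_nonempty with h | ⟨Q₀, -⟩
    · obtain ⟨Q, hQ, -⟩ := hno a (self_mem_num a b)
      simp [h] at hQ
    · obtain ⟨Q, hQ, hle⟩ := (Ideal.subset_union_prime Q₀ Q₀ fun Q _ _ _ => Q.2).1 hsub
      obtain ⟨s, hs, hsI⟩ := hk Q ⟨((hSb Q).1 hQ).1, ((hSb Q).1 hQ).2⟩
      exact hs (hle hsI)
  set z : B := (tr ha (⟨x, hxI⟩ : num a b) : B) with hz
  have hxz : b * x = a * z := tr_spec ha ⟨x, hxI⟩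
  have hzQ : ∀ Q ∈ Sb, ∀ w : (R Q)ˣ, algebraMap B (R Q) a = w * algebraMap B _ b →
      algebraMap B (R Q) x = w * algebraMap B _ z := fun Q hQ w hw => by
    refine (mul_cancel_left_mem_nonZeroDivisors (hreg Q b hb)).1 ?_
    rw [← map_mul, hxz, map_mul, hw]; ring
  have hzS : ∀ Q ∈ Sb, z ∉ Q.asIdeal := fun Q hQ hmem => by
    obtain ⟨w, hw⟩ := heq Q ⟨((hSb Q).1 hQ).1, ((hSb Q).1 hQ).2⟩
    refine hx Q hQ ((IsLocalization.AtPrime.to_map_mem_maximal_iff (R Q) Q.asIdeal x).1 ?_)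
    rw [hzQ Q hQ w hw]
    exact Ideal.mul_mem_left _ _ ((IsLocalization.AtPrime.to_map_mem_maximal_iff (R Q) Q.asIdeal z).2 hmem)
  -- the module `H a b`
  have hoff : Off Sb (H a b) := by
    intro Q hQm hQS y
    obtain ⟨u, rfl⟩ := Submodule.Quotient.mk_surjective _ y
    by_cases haQ : a ∈ Q.asIdeal
    · refine ⟨b, fun hbQ => hQS ((hSb Q).2 ⟨⟨hQm, haQ⟩, hQm, hbQ⟩), (Submodule.Quotient.mk_eq_zero _).2 ?_⟩
      exact mem_num.1 u.2
    · exact ⟨a, haQ, (Submodule.Quotient.mk_eq_zero _).2 (Ideal.mul_mem_right _ _ (Ideal.mem_span_singleton_self a))⟩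
  have hcur : ∀ Q ∈ Sb, Curve Q.asIdeal := fun Q hQ => curve_of_good hB (cset_good ha ((hSb Q).1 hQ).1)
  obtain ⟨-, hfx, hcx⟩ := chi_mulMap (A := A) Sb hcur (x := x) hx hoff
  obtain ⟨-, hfz, hcz⟩ := chi_mulMap (A := A) Sb hcur (x := z) hzS hoff
  have hloc : ∀ Q ∈ Sb, (locLen Q.asIdeal (H a b)).toNat = (Ring.ord (R Q) (algebraMap B (R Q) b)).toNat := by
    intro Q hQ
    obtain ⟨w, hw⟩ := heq Q ⟨((hSb Q).1 hQ).1, ((hSb Q).1 hQ).2⟩
    rw [show Ring.ord (R Q) (algebraMap B (R Q) b) = Ring.ord (R Q) (algebraMap B (R Q) a) by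
      rw [hw, Ring.ord_mul_of_isUnit_left w.isUnit]]
    rw [← locLen_quotient_span Q.asIdeal a]
    let i : H a b →ₗ[B] B ⧸ Ideal.span {a} := inc a b _ le_rfl
    let p : (B ⧸ Ideal.span {a}) →ₗ[B] B ⧸ num a b :=
      Submodule.factor ((Ideal.span_singleton_le_iff_mem _).2 (self_mem_num a b))
    have hi : Function.Injective i := by
      rw [injective_iff_map_eq_zero]
      intro y hy
      obtain ⟨u, rfl⟩ := Submodule.Quotient.mk_surjective _ y
      exact (Submodule.Quotient.mk_eq_zero _).2 ((Submodule.Quotient.mk_eq_zero (Ideal.span {a})).1 hy :)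
    have hex : Function.Exact i p := fun z => by
      obtain ⟨z, rfl⟩ := Submodule.Quotient.mk_surjective _ z
      constructor
      · intro h
        exact ⟨Submodule.Quotient.mk ⟨z, (Submodule.Quotient.mk_eq_zero (num a b)).1 h⟩, rfl⟩
      · rintro ⟨y, hy⟩
        obtain ⟨u, rfl⟩ := Submodule.Quotient.mk_surjective _ y
        rw [← hy]
        exact (Submodule.Quotient.mk_eq_zero (num a b)).2 u.2
    rw [locLen_add Q.asIdeal hi (Submodule.factor_surjective _) hex,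
      locLen_eq_zero_of_smul Q.asIdeal (hx Q hQ) (M := B ⧸ num a b) fun y => ?_, add_zero]
    obtain ⟨y, rfl⟩ := Submodule.Quotient.mk_surjective _ y
    exact (Submodule.Quotient.mk_eq_zero (num a b)).2 (Ideal.mul_mem_right _ _ hxI)
  -- the two composites agree
  let i₁ : H a b →ₗ[A] B ⧸ J := (inc a b J hle).restrictScalars A
  let i₂ : H a b →ₗ[A] B ⧸ J := ((inc b a J hle') ∘ₗ (ex ha)).restrictScalars A
  obtain ⟨he, hce⟩ := fin2_of_equiv ((exEquiv ha hb).restrictScalars A)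
  obtain ⟨hi₂, hci₂⟩ := chi_comp he hi'
  have hcomp : i₂ ∘ₗ mulMap A (H a b) x = i₁ ∘ₗ mulMap A (H a b) z := by
    refine LinearMap.ext fun y => ?_
    obtain ⟨u, rfl⟩ := Submodule.Quotient.mk_surjective _ y
    refine (Submodule.Quotient.eq J).2 ?_
    suffices (tr ha (x • u) : B) - z * (u : B) = 0 by
      show (tr ha (x • u) : B) - (↑(z • u) : B) ∈ J
      rw [Submodule.coe_smul, smul_eq_mul, this]
      exact J.zero_mem
    refine (mul_left_mem_nonZeroDivisors_eq_zero_iff ha).1 ?_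
    rw [mul_sub, ← tr_spec ha, Submodule.coe_smul, smul_eq_mul]
    linear_combination (u : B) * hxz
  obtain ⟨-, hc1⟩ := chi_comp hfx (show Fin2 i₂ from hi₂)
  obtain ⟨-, hc2⟩ := chi_comp hfz (show Fin2 i₁ from hi)
  rw [hcomp, hc2] at hc1
  -- the local terms
  have hterm_b : ∀ Q ∈ Sb, term W a b Q =
      ((locLen Q.asIdeal (H a b)).toNat : ℤ) * ((ordA A Q.asIdeal x : ℤ) - ordA A Q.asIdeal z) := by
    intro Q hQ
    obtain ⟨w, hw⟩ := heq Q ⟨((hSb Q).1 hQ).1, ((hSb Q).1 hQ).2⟩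
    have hg : Good Q := cset_good ha ((hSb Q).1 hQ).1
    have := krullDimLE_atPrime hB Q hg.1
    have hwne : residue (R Q) w ≠ 0 := (residue_ne_zero_iff_isUnit _).2 w.isUnit
    rw [term, tameSymbol_eq_val (⟨algebraMap B (R Q) b, hreg Q b hb, w, 1, 1, 1, by rw [pow_one]; exact hw,
      by simp [R]⟩ : Fac (R Q) _ _), Fac.val, Fac.base, hloc Q hQ]
    simp only [mul_one, pow_one, Units.val_one, map_one, inv_one]
    rw [W.pow hg (mul_ne_zero (neg_ne_zero.2 one_ne_zero) hwne),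
      W.mul Q hg _ _ (neg_ne_zero.2 one_ne_zero) hwne, W.neg_one hg, zero_add]
    congr 1
    have hzne : residue (R Q) (algebraMap B (R Q) z) ≠ 0 := fun h => hzS Q hQ
      ((IsLocalization.AtPrime.to_map_mem_maximal_iff (R Q) Q.asIdeal z).1 ((residue_eq_zero_iff _).1 h))
    have h1 := congrArg (fun r => W.ω Q (residue (R Q) r)) (hzQ Q hQ w hw)
    simp only [map_mul] at h1
    rw [W.mul Q hg _ _ hwne hzne, W.apply_mk Q hg x (hx Q hQ), W.apply_mk Q hg z (hzS Q hQ)] at h1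
    omega
  have hterm_E : ∀ Q ∈ E, term W a b Q = -(((Ring.ord (R Q) (algebraMap B _ a)).toNat : ℤ) * ordA A Q.asIdeal b) := by
    intro Q hQ
    have hbQ := ((hE Q).1 hQ).2
    have hg : Good Q := cset_good ha ((hE Q).1 hQ).1
    have := krullDimLE_atPrime hB Q hg.1
    have hbu : IsUnit (algebraMap B (R Q) b) := (IsLocalization.AtPrime.isUnit_to_map_iff (R Q) Q.asIdeal b).2 hbQ
    rw [term, tameSymbol_eq_val (⟨algebraMap B (R Q) a, hreg Q a ha, 1, hbu.unit, 1, 0, by simp [R], by simp [R]⟩ :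
      Fac (R Q) _ _), Fac.val, Fac.base]
    simp only [mul_zero, pow_zero, one_mul, pow_one, IsUnit.unit_spec]
    have hne := (residue_ne_zero_iff_isUnit _).2 hbu
    rw [W.pow hg (inv_ne_zero hne), W.inv hg hne, W.apply_mk Q hg b hbQ]
    ring
  have hterm_E' : ∀ Q ∈ E', term W a b Q = ((Ring.ord (R Q) (algebraMap B _ b)).toNat : ℤ) * ordA A Q.asIdeal a := by
    intro Q hQ
    have haQ := ((hE' Q).1 hQ).2
    have hg : Good Q := cset_good hb ((hE' Q).1 hQ).1
    have := krullDimLE_atPrime hB Q hg.1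
    have hau : IsUnit (algebraMap B (R Q) a) := (IsLocalization.AtPrime.isUnit_to_map_iff (R Q) Q.asIdeal a).2 haQ
    rw [term, tameSymbol_eq_val (⟨algebraMap B (R Q) b, hreg Q b hb, hau.unit, 1, 0, 1, by simp [R], by simp [R]⟩ :
      Fac (R Q) _ _), Fac.val, Fac.base]
    simp only [zero_mul, pow_zero, one_mul, pow_one, IsUnit.unit_spec, inv_one, mul_one]
    rw [W.pow hg ((residue_ne_zero_iff_isUnit _).2 hau), W.apply_mk Q hg a haQ]
  have hset : cset (a * b) = ↑(Sb ∪ E ∪ E') := by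
    ext Q
    simp only [Finset.coe_union, Set.mem_union, Finset.mem_coe, hSb, hE, hE']
    change (_ ∧ a * b ∈ Q.asIdeal) ↔ _
    rw [Q.2.mul_mem_iff_mem_or_mem]
    simp only [cset, Set.mem_ofPred_eq]
    tauto
  have hd1 : Disjoint Sb E := Finset.disjoint_left.2 fun Q h h' => ((hE Q).1 h').2 ((hSb Q).1 h).2.2
  have hd2 : Disjoint (Sb ∪ E) E' := Finset.disjoint_left.2 fun Q h h' => by
    rcases Finset.mem_union.1 h with h | h
    · exact ((hE' Q).1 h').2 ((hSb Q).1 h).1.2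
    · exact ((hE' Q).1 h').2 ((hE Q).1 h).1.2
  rw [sigma, hset, finsum_mem_coe_finset, Finset.sum_union hd2, Finset.sum_union hd1,
    Finset.sum_congr rfl hterm_b, Finset.sum_congr rfl hterm_E, Finset.sum_congr rfl hterm_E',
    Finset.sum_neg_distrib, ← hci, ← hci']
  simp only [mul_sub, Finset.sum_sub_distrib, ← hcx, ← hcz]
  have : chi i₂ = chi ((inc b a J hle').restrictScalars A) := by rw [show chi i₂ = _ from hci₂, hce, zero_add]
  change _ + -chi i₁ + _ = _
  omega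

end Groth.Agent.Lib.Tame.Key.Ident
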