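import Groth.Agent.Lib.Tame.Key.Ident
import Groth.Agent.Lib.Tame.Extension
import Mathlib.RingTheory.Ideal.AssociatedPrime.Basic
import Mathlib.RingTheory.Ideal.AssociatedPrime.Finiteness

/-!
# Reduction of the key sum to locally equal or coprime pairs
-/

set_option autoImplicit false

universe u

open IsLocalRing

namespace Groth.Agent.Lib.Tame.Key.Reduce

open Ident Value Laws

variable {B : Type u} [CommRing B] [IsNoetherianRing B]

omit [IsNoetherianRing B] in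
/-- Prime avoidance for a coset. -/
theorem davis (T : Finset (PrimeSpectrum B)) (r : B) (J : Ideal B) (hJ : ∀ P ∈ T, ¬ J ≤ P.asIdeal) :
    ∃ j ∈ J, ∀ P ∈ T, r + j ∉ P.asIdeal := by
  classical
  let T₁ := T.filter fun P => ∀ P' ∈ T, P ≤ P' → P' = P
  suffices h : ∃ j ∈ J, ∀ P ∈ T₁, r + j ∉ P.asIdeal by
    obtain ⟨j, hj, hjT⟩ := h
    refine ⟨j, hj, fun P hP hmem => ?_⟩
    obtain ⟨M, hPM, hM, hmax⟩ : ∃ M, P ≤ M ∧ M ∈ T ∧ ∀ P' ∈ T, M ≤ P' → P' = M := by
      obtain ⟨M, hPM, hM⟩ := T.exists_le_maximal hP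
      exact ⟨M, hPM, hM.1, fun P' hP' hle => le_antisymm (hM.2 hP' hle) hle⟩
    exact hjT M (Finset.mem_filter.2 ⟨hM, hmax⟩) (hPM hmem)
  let out := T₁.filter fun P => r ∉ P.asIdeal
  let inn := T₁.filter fun P => r ∈ P.asIdeal
  let K : Ideal B := J * ∏ P ∈ out, P.asIdeal
  have hK : ∀ P ∈ inn, ¬ K ≤ P.asIdeal := fun P hP hle => by
    obtain ⟨hP₁, hrP⟩ := Finset.mem_filter.1 hP
    rcases (Ideal.IsPrime.mul_le P.2).1 hle with h | h
    · exact hJ P (Finset.mem_filter.1 hP₁).1 h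
    · obtain ⟨P', hP', hle'⟩ := (Ideal.IsPrime.prod_le P.2).1 h
      obtain ⟨hP'₁, hrP'⟩ := Finset.mem_filter.1 hP'
      have : P = P' := (Finset.mem_filter.1 hP'₁).2 P (Finset.mem_filter.1 hP₁).1 hle'
      exact hrP' (this ▸ hrP)
  obtain ⟨j, hjK, hj⟩ : ∃ j ∈ K, ∀ P ∈ inn, j ∉ P.asIdeal := by
    by_contra hno
    push Not at hno
    have hsub : (K : Set B) ⊆ ⋃ P ∈ (↑inn : Set (PrimeSpectrum B)), P.asIdeal := fun y hy => by
      obtain ⟨P, hP, hyP⟩ := hno y hy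
      exact Set.mem_iUnion₂.2 ⟨P, hP, hyP⟩
    rcases inn.eq_empty_or_nonempty with h | ⟨P₀, -⟩
    · obtain ⟨P, hP, -⟩ := hno 0 (zero_mem _)
      simp [h] at hP
    · obtain ⟨P, hP, hle⟩ := (Ideal.subset_union_prime P₀ P₀ fun P _ _ _ => P.2).1 hsub
      exact hK P hP hle
  refine ⟨j, Ideal.mul_le_left (I := J) hjK, fun P hP hmem => ?_⟩
  by_cases hr : r ∈ P.asIdeal
  · exact hj P (Finset.mem_filter.2 ⟨hP, hr⟩) (by simpa using sub_mem hmem hr)
  · refine hr ?_
    have : j ∈ P.asIdeal := (Ideal.prod_le_inf.trans (Finset.inf_le (Finset.mem_filter.2 ⟨hP, hr⟩)))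
      (Ideal.mul_le_right (I := J) hjK)
    simpa using sub_mem hmem this

/-- The associated primes of `B` as points. -/
theorem exists_assoc : ∃ T : Finset (PrimeSpectrum B),
    (∀ x, x ∈ nonZeroDivisors B ↔ ∀ P ∈ T, x ∉ P.asIdeal) := by
  classical
  have hfin : {P : PrimeSpectrum B | P.asIdeal ∈ associatedPrimes B B}.Finite :=
    Set.Finite.preimage (fun p _ p' _ h => PrimeSpectrum.ext h) (associatedPrimes.finite B B)
  refine ⟨hfin.toFinset, fun x => ?_⟩
  have h := Set.ext_iff.1 (biUnion_associatedPrimes_eq_compl_nonZeroDivisors (R := B)) x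
  simp only [Set.mem_iUnion, SetLike.mem_coe, Set.mem_compl_iff, exists_prop] at h
  constructor
  · intro hx P hP hxP
    exact h.1 ⟨_, hfin.mem_toFinset.1 hP, hxP⟩ hx
  · intro hx
    by_contra hne
    obtain ⟨p, hp, hxp⟩ := h.2 hne
    exact hx ⟨p, hp.isPrime⟩ (hfin.mem_toFinset.2 hp) hxp

variable (hB : ringKrullDim B ≤ 2)
include hB

/-- A global element with prescribed germ at `Q`. -/
theorem exists_param {Q : PrimeSpectrum B} (hQ : Good Q) {π : Localization.AtPrime Q.asIdeal}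
    (hπ : π ∈ nonZeroDivisors (Localization.AtPrime Q.asIdeal)) (hπu : ¬ IsUnit π) (T : Finset (PrimeSpectrum B))
    (hT : ∀ P ∈ T, ¬ Q.asIdeal ≤ P.asIdeal) :
    ∃ p ∈ nonZeroDivisors B, (∀ P ∈ T, p ∉ P.asIdeal) ∧
      ∃ w : (Localization.AtPrime Q.asIdeal)ˣ, algebraMap B (Localization.AtPrime Q.asIdeal) p = w * π := by
  classical
  let R := Localization.AtPrime Q.asIdeal
  have := krullDimLE_atPrime hB Q hQ.1
  obtain ⟨n, hn⟩ := Extension.exists_pow_le_span (pow_mem hπ 2)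
  let J : Ideal B := (Ideal.span {π ^ 2}).comap (algebraMap B R)
  have hQJ : Q.asIdeal ^ n ≤ J := Ideal.map_le_iff_le_comap.1 (by
    rw [Ideal.map_pow, Localization.AtPrime.map_eq_maximalIdeal]; exact hn)
  obtain ⟨U, hU⟩ := exists_assoc (B := B)
  have hne : ∀ P ∈ T ∪ U, ¬ J ≤ P.asIdeal := fun P hP hle => by
    have hQP : Q.asIdeal ≤ P.asIdeal := Ideal.IsPrime.le_of_pow_le (hQJ.trans hle)
    rcases Finset.mem_union.1 hP with h | h
    · exact hT P h hQP
    · obtain ⟨a, ha, haQ⟩ := hQ.2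
      exact (hU a).1 ha P h (hQP haQ)
  obtain ⟨r, t, hrt⟩ := IsLocalization.exists_mk'_eq Q.asIdeal.primeCompl π
  obtain ⟨j, hj, hjT⟩ := davis (T ∪ U) r J hne
  obtain ⟨c, hc⟩ := Ideal.mem_span_singleton'.1 (hj : algebraMap B R j ∈ Ideal.span {π ^ 2})
  have ht : IsUnit (algebraMap B R t + c * π) := by
    by_contra hnu
    have hπm : c * π ∈ maximalIdeal R := Ideal.mul_mem_left _ _ hπu
    have := sub_mem (hnu : algebraMap B R t + c * π ∈ maximalIdeal R) hπm
    rw [add_sub_cancel_right] at this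
    exact this (IsLocalization.map_units R t)
  refine ⟨r + j, (hU _).2 fun P hP => hjT P (Finset.mem_union_right _ hP),
    fun P hP => hjT P (Finset.mem_union_left _ hP), ht.unit, ?_⟩
  rw [IsUnit.unit_spec, map_add, ← IsLocalization.mk'_spec R r t, hrt, ← hc]
  ring

/-- Clearing denominators between locally associated elements. -/
theorem exists_frac (S : Finset (PrimeSpectrum B)) {a c : B} (ha : a ∈ nonZeroDivisors B) (hc : c ∈ nonZeroDivisors B)
    (hass : ∀ Q ∈ S, ∃ w : (Localization.AtPrime Q.asIdeal)ˣ,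
      algebraMap B (Localization.AtPrime Q.asIdeal) a = w * algebraMap B _ c) :
    ∃ s ∈ nonZeroDivisors B, ∃ u ∈ nonZeroDivisors B, s * a = u * c ∧
      ∀ Q ∈ S, s ∉ Q.asIdeal ∧ u ∉ Q.asIdeal := by
  classical
  obtain ⟨U, hU⟩ := exists_assoc (B := B)
  have hne : ∀ P ∈ S ∪ U, ¬ num c a ≤ P.asIdeal := fun P hP hle => by
    rcases Finset.mem_union.1 hP with h | h
    · obtain ⟨s, hs, hsn⟩ := exists_kill (hass P h)
      exact hs (hle hsn)
    · exact (hU c).1 hc P h (hle (self_mem_num c a))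
  obtain ⟨s, hs, hsT⟩ := davis (S ∪ U) 0 (num c a) hne
  simp only [zero_add] at hsT
  have hsn : s ∈ nonZeroDivisors B := (hU s).2 fun P hP => hsT P (Finset.mem_union_right _ hP)
  obtain ⟨u, hu⟩ := Ideal.mem_span_singleton'.1 (mem_num.1 hs)
  have hun : u ∈ nonZeroDivisors B := (mul_mem_nonZeroDivisors.1 (hu ▸ mul_mem ha hsn : u * c ∈ nonZeroDivisors B)).1
  refine ⟨s, hsn, u, hun, by rw [hu, mul_comm], fun Q hQ => ⟨hsT Q (Finset.mem_union_left _ hQ), fun huQ => ?_⟩⟩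
  obtain ⟨w, hw⟩ := hass Q hQ
  have h1 := congrArg (algebraMap B (Localization.AtPrime Q.asIdeal)) hu
  rw [map_mul, map_mul, hw, mul_right_comm] at h1
  have h2 := (mul_cancel_right_mem_nonZeroDivisors
    (IsLocalization.map_nonZeroDivisors_le Q.asIdeal.primeCompl (Localization.AtPrime Q.asIdeal) ⟨c, hc, rfl⟩)).1 h1
  have : IsUnit (algebraMap B (Localization.AtPrime Q.asIdeal) u) :=
    h2 ▸ w.isUnit.mul ((IsLocalization.AtPrime.isUnit_to_map_iff (Localization.AtPrime Q.asIdeal) Q.asIdeal s).2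
      (hsT Q (Finset.mem_union_left _ hQ)))
  exact (IsLocalization.AtPrime.isUnit_to_map_iff (Localization.AtPrime Q.asIdeal) Q.asIdeal u).1 this huQ

variable {A : Type u} [CommRing A] [IsLocalRing A] [IsNoetherianRing A] [Algebra A B] [Module.Finite A B]
  (W : OrdFn A B)

omit [IsLocalRing A] [IsNoetherianRing A] [Module.Finite A B] in
theorem sigma_eq_sum {a b : B} (ha : a ∈ nonZeroDivisors B) (hb : b ∈ nonZeroDivisors B)
    (S : Finset (PrimeSpectrum B)) (hS : cset (a * b) ⊆ ↑S) (hSg : ∀ Q ∈ S, Good Q) :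
    sigma W a b = ∑ Q ∈ S, term W a b Q := by
  classical
  rw [sigma, finsum_mem_eq_sum_of_inter_support_eq]
  ext Q
  constructor
  · exact fun ⟨h1, h2⟩ => ⟨hS h1, h2⟩
  · rintro ⟨h1, h2⟩
    refine ⟨⟨(hSg Q h1).1, ?_⟩, h2⟩
    by_contra hne
    have := krullDimLE_atPrime hB Q (hSg Q h1).1
    have hau : IsUnit (algebraMap B (Localization.AtPrime Q.asIdeal) a) :=
      (IsLocalization.AtPrime.isUnit_to_map_iff (Localization.AtPrime Q.asIdeal) Q.asIdeal a).2
        fun h => hne (Ideal.mul_mem_right _ _ h)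
    have hbu : IsUnit (algebraMap B (Localization.AtPrime Q.asIdeal) b) :=
      (IsLocalization.AtPrime.isUnit_to_map_iff (Localization.AtPrime Q.asIdeal) Q.asIdeal b).2
        fun h => hne (Ideal.mul_mem_left _ _ h)
    exact h2 (by rw [term, tameSymbol_of_isUnit hau hbu, W.one (hSg Q h1)])

omit [IsLocalRing A] [IsNoetherianRing A] [Module.Finite A B] in
theorem sigma_mul {a a' b : B} (ha : a ∈ nonZeroDivisors B) (ha' : a' ∈ nonZeroDivisors B) (hb : b ∈ nonZeroDivisors B) :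
    sigma W (a * a') b = sigma W a b + sigma W a' b ∧ sigma W b (a * a') = sigma W b a + sigma W b a' := by
  classical
  have hn := mul_mem (mul_mem ha ha') hb
  have hfin := finite_cset hB hn
  have hSg : ∀ Q ∈ hfin.toFinset, Good Q := fun Q hQ => cset_good hn (hfin.mem_toFinset.1 hQ)
  have hsub : ∀ x, x ∣ a * a' * b → cset x ⊆ ↑hfin.toFinset := fun x ⟨y, hy⟩ Q hQ => by
    rw [Set.Finite.coe_toFinset]
    exact ⟨hQ.1, hy ▸ Ideal.mul_mem_right _ _ hQ.2⟩
  rw [sigma_eq_sum hB W (mul_mem ha ha') hb _ (hsub _ dvd_rfl) hSg,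
    sigma_eq_sum hB W ha hb _ (hsub _ ⟨a', by ring⟩) hSg, sigma_eq_sum hB W ha' hb _ (hsub _ ⟨a, by ring⟩) hSg,
    sigma_eq_sum hB W hb (mul_mem ha ha') _ (hsub _ ⟨1, by ring⟩) hSg,
    sigma_eq_sum hB W hb ha _ (hsub _ ⟨a', by ring⟩) hSg, sigma_eq_sum hB W hb ha' _ (hsub _ ⟨a, by ring⟩) hSg,
    ← Finset.sum_add_distrib, ← Finset.sum_add_distrib]
  constructor <;> refine Finset.sum_congr rfl fun Q hQ => ?_ <;>
    have := krullDimLE_atPrime hB Q (hSg Q hQ).1 <;>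
    have hreg : ∀ c, c ∈ nonZeroDivisors B →
      algebraMap B (Localization.AtPrime Q.asIdeal) c ∈ nonZeroDivisors (Localization.AtPrime Q.asIdeal) :=
      fun c hc => IsLocalization.map_nonZeroDivisors_le Q.asIdeal.primeCompl _ ⟨c, hc, rfl⟩
  · rw [term, map_mul, (mul_laws (hreg a ha) (hreg a' ha') (hreg b hb)).1,
      W.mul Q (hSg Q hQ) _ _ (tameSymbol_ne_zero _ _) (tameSymbol_ne_zero _ _)]
    rfl
  · rw [term, map_mul, (mul_laws (hreg a ha) (hreg a' ha') (hreg b hb)).2,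
      W.mul Q (hSg Q hQ) _ _ (tameSymbol_ne_zero _ _) (tameSymbol_ne_zero _ _)]
    rfl

/-- The key sum vanishes when the only common prime has a parameter. -/
theorem sigma_eq_zero_of_param {p b : B} (hp : p ∈ nonZeroDivisors B) (hb : b ∈ nonZeroDivisors B)
    {Q : PrimeSpectrum B} (hcom : ∀ Q' ∈ cset p ∩ cset b, Q' = Q) (hQ : Good Q)
    {π : Localization.AtPrime Q.asIdeal} (hπ : π ∈ nonZeroDivisors (Localization.AtPrime Q.asIdeal))
    (hπu : ¬ IsUnit π) {w : (Localization.AtPrime Q.asIdeal)ˣ} (hw : algebraMap B _ p = w * π)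
    {v : (Localization.AtPrime Q.asIdeal)ˣ} {f : ℕ} (hv : algebraMap B _ b = v * π ^ f) :
    sigma W p b = 0 := by
  classical
  have hfp := finite_cset hB hp
  have hcurve := curve_of_good hB hQ
  obtain ⟨p', hp', hav, w', hw'⟩ := exists_param hB hQ hπ hπu (hfp.toFinset.erase Q) fun P hP hle => by
    obtain ⟨hne, hPm⟩ := Finset.mem_erase.1 hP
    exact hne (PrimeSpectrum.ext (hcurve.eq_of_le hle (hfp.mem_toFinset.1 hPm).1).symm)
  obtain ⟨s, hs, u, hu, hsu, havoid⟩ := exists_frac hB hfp.toFinset hb (pow_mem hp' f) fun Q' hQ' => by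
    by_cases h : Q' = Q
    · subst h
      refine ⟨v * (w' ^ f)⁻¹, ?_⟩
      rw [map_pow, hw', mul_pow, hv, Units.val_mul, mul_assoc, ← mul_assoc _ _ (π ^ f),
        ← Units.val_pow_eq_pow_val, Units.inv_mul, one_mul]
    · have hQ'' := hfp.mem_toFinset.1 hQ'
      have hbu : IsUnit (algebraMap B (Localization.AtPrime Q'.asIdeal) b) :=
        (IsLocalization.AtPrime.isUnit_to_map_iff (Localization.AtPrime Q'.asIdeal) Q'.asIdeal b).2
          fun hm => h (hcom Q' ⟨hQ'', hQ''.1, hm⟩)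
      have hpu : IsUnit (algebraMap B (Localization.AtPrime Q'.asIdeal) (p' ^ f)) := by
        rw [map_pow]
        exact ((IsLocalization.AtPrime.isUnit_to_map_iff (Localization.AtPrime Q'.asIdeal) Q'.asIdeal p').2
          (hav Q' (Finset.mem_erase.2 ⟨h, hQ'⟩))).pow f
      exact ⟨hbu.unit * hpu.unit⁻¹, by rw [Units.val_mul, mul_assoc, IsUnit.val_inv_mul, mul_one, IsUnit.unit_spec]⟩
  have hcop : ∀ x, x ∈ nonZeroDivisors B → (∀ Q' ∈ hfp.toFinset, x ∉ Q'.asIdeal) → sigma W p x = 0 :=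
    fun x hx hav' => sigma_eq_zero hB W hp hx fun Q' hQ' => absurd hQ'.2.2 (hav' Q' (hfp.mem_toFinset.2 hQ'.1))
  have hpp : sigma W p p' = 0 := by
    refine sigma_eq_zero hB W hp hp' fun Q' hQ' => ?_
    by_cases h : Q' = Q
    · subst h
      exact ⟨w * w'⁻¹, by rw [hw', hw, Units.val_mul, mul_assoc, Units.inv_mul_cancel_left]⟩
    · exact absurd hQ'.2.2 (hav Q' (Finset.mem_erase.2 ⟨h, hfp.mem_toFinset.2 hQ'.1⟩))
  have hpow : ∀ n : ℕ, sigma W p (p' ^ n) = 0 := by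
    intro n
    induction n with
    | zero =>
      have := (sigma_mul hB W (one_mem _) (one_mem _) hp).2
      rw [one_mul] at this
      rw [pow_zero]; omega
    | succ n ih => rw [pow_succ, (sigma_mul hB W (pow_mem hp' n) hp' hp).2, ih, hpp, add_zero]
  have h1 := (sigma_mul hB W hs hb hp).2
  rw [hsu, (sigma_mul hB W hu (pow_mem hp' f) hp).2, hpow f, hcop u hu fun Q' hQ' => (havoid Q' hQ').2,
    hcop s hs fun Q' hQ' => (havoid Q' hQ').1] at h1
  omega

/-- The key sum vanishes when factorisations exist at every relevant prime. -/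
theorem sigma_eq_zero_of_fac {a b : B} (ha : a ∈ nonZeroDivisors B) (hb : b ∈ nonZeroDivisors B)
    (hfac : ∀ Q ∈ cset (a * b), Nonempty (Fac (Localization.AtPrime Q.asIdeal) (algebraMap B _ a) (algebraMap B _ b))) :
    sigma W a b = 0 := by
  classical
  have hn := mul_mem ha hb
  have hfin := finite_cset hB hn
  set S := hfin.toFinset
  have hS : ∀ Q ∈ S, Q ∈ cset (a * b) := fun Q hQ => hfin.mem_toFinset.1 hQ
  have hG : ∀ Q ∈ S, ∃ (π : Localization.AtPrime Q.asIdeal) (u v : (Localization.AtPrime Q.asIdeal)ˣ) (e f : ℕ)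
      (p : B), π ∈ nonZeroDivisors _ ∧ ¬ IsUnit π ∧ algebraMap B _ a = u * π ^ e ∧ algebraMap B _ b = v * π ^ f ∧
        p ∈ nonZeroDivisors B ∧ (∀ P ∈ S.erase Q, p ∉ P.asIdeal) ∧
        ∃ w : (Localization.AtPrime Q.asIdeal)ˣ, algebraMap B _ p = w * π := by
    intro Q hQ
    obtain ⟨F⟩ := hfac Q (hS Q hQ)
    have hnu : ¬ IsUnit F.π := fun h => by
      have : IsUnit (algebraMap B (Localization.AtPrime Q.asIdeal) (a * b)) := by
        rw [map_mul]
        exact ((congrArg IsUnit F.ha).mpr (F.u.isUnit.mul (h.pow _))).mul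
          ((congrArg IsUnit F.hb).mpr (F.v.isUnit.mul (h.pow _)))
      exact (IsLocalization.AtPrime.isUnit_to_map_iff (Localization.AtPrime Q.asIdeal) Q.asIdeal _).1 this (hS Q hQ).2
    have hg := cset_good hn (hS Q hQ)
    obtain ⟨p, hp, hav, hw⟩ := exists_param hB hg F.hπ hnu (S.erase Q) fun P hP hle => by
      obtain ⟨hne, hPm⟩ := Finset.mem_erase.1 hP
      exact hne (PrimeSpectrum.ext ((curve_of_good hB hg).eq_of_le hle (hS P hPm).1).symm)
    exact ⟨F.π, F.u, F.v, F.e, F.f, p, F.hπ, hnu, F.ha, F.hb, hp, hav, hw⟩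
  choose π u v e f p hπ hπu hau hbv hp hav w hw using hG
  let P : B := ∏ Q ∈ S.attach, p Q.1 Q.2 ^ e Q.1 Q.2
  have hPn : P ∈ nonZeroDivisors B := prod_mem fun Q _ => pow_mem (hp Q.1 Q.2) _
  obtain ⟨s, hs, t, ht, hst, havoid⟩ := exists_frac hB S ha hPn fun Q hQ => by
    let R := Localization.AtPrime Q.asIdeal
    have hrest : IsUnit (algebraMap B R (∏ Q' ∈ S.attach.erase ⟨Q, hQ⟩, p Q'.1 Q'.2 ^ e Q'.1 Q'.2)) := by
      refine (IsLocalization.AtPrime.isUnit_to_map_iff R Q.asIdeal _).2 fun hmem => ?_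
      obtain ⟨Q', hQ', hmem'⟩ := (Q.2.prod_mem_iff).1 hmem
      exact hav Q'.1 Q'.2 Q (Finset.mem_erase.2
        ⟨fun h => (Finset.ne_of_mem_erase hQ') (Subtype.ext h.symm), hQ⟩) (Q.2.mem_of_pow_mem _ hmem')
    obtain ⟨r, hr⟩ := hrest
    refine ⟨u Q hQ * (w Q hQ ^ e Q hQ * r)⁻¹, ?_⟩
    simp only [P]
    rw [← Finset.mul_prod_erase _ _ (Finset.mem_attach S ⟨Q, hQ⟩), map_mul, map_pow, hw, mul_pow, hau, ← hr,
      ← Units.val_pow_eq_pow_val, mul_right_comm (((w Q hQ) ^ e Q hQ : Rˣ) : R), ← mul_assoc (((u Q hQ * (w Q hQ ^ e Q hQ * r)⁻¹ : Rˣ)) : R),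
      ← Units.val_mul, ← Units.val_mul, inv_mul_cancel_right]
  have hcop : ∀ x, x ∈ nonZeroDivisors B → (∀ Q ∈ S, x ∉ Q.asIdeal) → sigma W x b = 0 := fun x hx hav' =>
    sigma_eq_zero hB W hx hb fun Q hQ => absurd hQ.1.2
      (hav' Q (hfin.mem_toFinset.2 ⟨hQ.2.1, Ideal.mul_mem_left _ _ hQ.2.2⟩))
  have h1 := (sigma_mul hB W hs ha hb).1
  rw [hst, (sigma_mul hB W ht hPn hb).1, hcop t ht fun Q hQ => (havoid Q hQ).2,
    hcop s hs fun Q hQ => (havoid Q hQ).1] at h1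
  have hP0 : sigma W P b = 0 := by
    refine Finset.prod_induction (s := S.attach) _ (fun x => x ∈ nonZeroDivisors B → sigma W x b = 0)
      (fun x y hx hy hxy => ?_) (fun _ => ?_) (fun Q _ _ => ?_) hPn
    · obtain ⟨hxn, hyn⟩ := mul_mem_nonZeroDivisors.1 hxy
      rw [(sigma_mul hB W hxn hyn hb).1, hx hxn, hy hyn, add_zero]
    · have := (sigma_mul hB W (one_mem _) (one_mem _) hb).1
      rw [one_mul] at this; omega
    · induction e Q.1 Q.2 with
      | zero =>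
        have := (sigma_mul hB W (one_mem _) (one_mem _) hb).1
        rw [one_mul] at this; rw [pow_zero]; omega
      | succ n ih =>
        rw [pow_succ, (sigma_mul hB W (pow_mem (hp Q.1 Q.2) n) (hp Q.1 Q.2) hb).1, ih,
          sigma_eq_zero_of_param hB W (hp Q.1 Q.2) hb (Q := Q.1) (fun Q' hQ' => by
              by_contra hne
              exact hav Q.1 Q.2 Q' (Finset.mem_erase.2
                ⟨hne, hfin.mem_toFinset.2 ⟨hQ'.1.1, Ideal.mul_mem_left _ _ hQ'.2.2⟩⟩) hQ'.1.2)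
            (cset_good hn (hS Q.1 Q.2)) (hπ Q.1 Q.2) (hπu Q.1 Q.2) (hw Q.1 Q.2) (hbv Q.1 Q.2), add_zero]
  omega

end Groth.Agent.Lib.Tame.Key.Reduce
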